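import Cfsg.Agent.Lib.PSpCent.Facts
import Mathlib.GroupTheory.OrderOfElement
import Mathlib.GroupTheory.SpecificGroups.Cyclic
import Mathlib.GroupTheory.Sylow
import Mathlib.Tactic.Group

/-!
# A group with an involution centraliser equal to the order 576 model
-/

set_option autoImplicit false

namespace Cfsg.Agent.PSpCent

theorem m24_lt (a b : ℕ) : m24 a b < 24 := Nat.mod_lt _ (by norm_num)

theorem i24_lt (a : ℕ) : i24 a < 24 := Nat.mod_lt _ (by norm_num)

theorem enc_lt {a b : ℕ} (ha : a < 24) (hb : b < 24) (s : ℕ) : enc a b s < 576 := by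
  unfold enc
  split <;> omega

theorem mul_lt (x y : ℕ) : mul x y < 576 := by
  unfold mul
  split <;> exact enc_lt (m24_lt _ _) (m24_lt _ _) _

theorem inv_lt (x : ℕ) : inv x < 576 := by
  unfold inv
  split <;> exact enc_lt (i24_lt _) (i24_lt _) _

theorem conj_lt (c x : ℕ) : conj c x < 576 := mul_lt _ _

theorem pw_lt (x k : ℕ) : pw x k < 576 := by
  cases k with
  | zero => norm_num [pw]
  | succ k => exact mul_lt _ _

theorem wit_lt (x : ℕ) : wit x < 576 := Nat.mod_lt _ (by norm_num)

/-- An isomorphism of the model with the centraliser of `t`. -/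
structure Cent (G : Type*) [Group G] (t : G) where
  f : ℕ → G
  hmul : ∀ {x y : ℕ}, x < 576 → y < 576 → f (mul x y) = f x * f y
  hinj : ∀ {x y : ℕ}, x < 576 → y < 576 → f x = f y → x = y
  mem_iff : ∀ g : G, g * t = t * g ↔ ∃ x < 576, f x = g
  f_t : f 24 = t

theorem mem_invols {x : ℕ} (hx : x < 576) : x ∈ invols ↔ kind x ≠ 0 := by
  have h := all576_spec chk_kind x hx
  simp only [Bool.and_eq_true, beq_iff_eq] at h
  rw [← List.contains_iff_mem, ← h.2, bne_iff_ne]

theorem lt_of_invols {x : ℕ} (hx : x ∈ invols) : x < 576 := by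
  revert x
  decide +kernel

theorem kind_le {x : ℕ} (hx : x < 576) : kind x ≤ 4 := by
  have h := all576_spec chk_kind x hx
  simp only [Bool.and_eq_true, beq_iff_eq, decide_eq_true_eq] at h
  exact h.1.1.2

theorem eq_of_kind_four {x : ℕ} (hx : x < 576) (h4 : kind x = 4) : x = 24 := by
  have h := all576_spec chk_kind x hx
  simp only [Bool.and_eq_true] at h
  simpa [h4] using h.1.2

theorem rep_lt (k : ℕ) : rep k < 576 := by
  unfold rep
  split <;> norm_num

theorem kind_conj {c x : ℕ} (hc : c < 576) (hx : x ∈ invols) : kind (conj c x) = kind x := by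
  have h := all576_spec chk_kindConj c hc
  rw [List.all_eq_true] at h
  simpa using h x hx

theorem lt_of_e0 {x : ℕ} (hx : x ∈ e0List) : x < 576 := by
  revert x
  decide +kernel

theorem lt_of_s {x : ℕ} (hx : x ∈ sList) : x < 576 := by
  revert x
  decide +kernel

namespace Cent

variable {G : Type*} [Group G] {t : G} (K : Cent G t)

theorem f_zero : K.f 0 = 1 := by
  have h := K.hmul (x := 0) (y := 0) (by norm_num) (by norm_num)
  rw [show mul 0 0 = 0 by decide +kernel] at h
  simpa using h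

theorem f_inv {x : ℕ} (hx : x < 576) : K.f (inv x) = (K.f x)⁻¹ := by
  have h := all576_spec chk_inv x hx
  rw [beq_iff_eq] at h
  exact eq_inv_of_mul_eq_one_right (by rw [← K.hmul hx (inv_lt x), h, K.f_zero])

theorem f_conj {c x : ℕ} (hc : c < 576) (hx : x < 576) :
    K.f (conj c x) = K.f c * K.f x * (K.f c)⁻¹ := by
  rw [conj, K.hmul (mul_lt _ _) (inv_lt _), K.hmul hc hx, K.f_inv hc]

theorem f_pw {x : ℕ} (hx : x < 576) (k : ℕ) : K.f (pw x k) = K.f x ^ k := by
  induction k with
  | zero => simpa [pw] using K.f_zero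
  | succ k ih => rw [pw, K.hmul (pw_lt x k) hx, ih, pow_succ]

theorem comm_iff {x y : ℕ} (hx : x < 576) (hy : y < 576) :
    K.f x * K.f y = K.f y * K.f x ↔ comm x y = true := by
  rw [comm, beq_iff_eq, ← K.hmul hx hy, ← K.hmul hy hx]
  exact ⟨fun h => K.hinj (mul_lt _ _) (mul_lt _ _) h, fun h => by rw [h]⟩

theorem f_mem {x : ℕ} (hx : x < 576) : K.f x * t = t * K.f x := (K.mem_iff _).2 ⟨x, hx, rfl⟩

theorem f_eq_one {x : ℕ} (hx : x < 576) (h : K.f x = 1) : x = 0 :=
  K.hinj hx (by norm_num) (by rw [h, K.f_zero])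

theorem pow_twelve {x : ℕ} (hx : x < 576) : K.f x ^ 12 = 1 := by
  have h := all576_spec chk_pw x hx
  rw [beq_iff_eq] at h
  rw [← K.f_pw hx, h, K.f_zero]

theorem orderOf_f {x : ℕ} (hx : x < 576) : orderOf (K.f x) = 2 ↔ x ∈ invols := by
  have h := all576_spec chk_kind x hx
  simp only [Bool.and_eq_true, beq_iff_eq] at h
  rw [mem_invols hx, ← bne_iff_ne, h.1.1.1, Bool.and_eq_true, bne_iff_ne, beq_iff_eq,
    orderOf_eq_prime_iff, pow_two, ← K.hmul hx hx]
  constructor
  · rintro ⟨h1, h2⟩
    exact ⟨fun e => h2 (by rw [e, K.f_zero]), K.f_eq_one (mul_lt _ _) h1⟩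
  · rintro ⟨h1, h2⟩
    exact ⟨by rw [h2, K.f_zero], fun e => h1 (K.f_eq_one hx e)⟩

include K in
theorem t_order : orderOf t = 2 := by
  rw [← K.f_t]
  exact (K.orderOf_f (by norm_num)).2 (by decide +kernel)

/-- An involution centralising `t` is the image of an involution of the model. -/
theorem exists_invol {g : G} (hg : g * t = t * g) (h2 : orderOf g = 2) :
    ∃ x ∈ invols, K.f x = g := by
  obtain ⟨x, hx, rfl⟩ := (K.mem_iff g).1 hg
  exact ⟨x, (K.orderOf_f hx).1 h2, rfl⟩

theorem wit_eq {x : ℕ} (hx : x ∈ invols) :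
    K.f (wit x) * K.f (rep (kind x)) * (K.f (wit x))⁻¹ = K.f x := by
  have hx' := lt_of_invols hx
  have h := all576_spec chk_wit x hx'
  have hk := (mem_invols hx').1 hx
  simp only [Bool.or_eq_true, beq_iff_eq, hk, false_or] at h
  rw [← K.f_conj (wit_lt x) (rep_lt _), h]

theorem isConj_rep {x : ℕ} (hx : x ∈ invols) : IsConj (K.f (rep (kind x))) (K.f x) :=
  isConj_iff.2 ⟨_, K.wit_eq hx⟩

theorem kind_eq_of_conj {x y : ℕ} (hx : x ∈ invols) (hy : y < 576) {c : G} (hc : c * t = t * c)
    (h : c * K.f x * c⁻¹ = K.f y) : kind y = kind x := by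
  obtain ⟨z, hz, rfl⟩ := (K.mem_iff c).1 hc
  rw [← K.f_conj hz (lt_of_invols hx)] at h
  rw [← K.hinj (conj_lt _ _) hy h, kind_conj hz hx]

/-- The subgroup `E` of order 16. -/
def E : Subgroup G where
  carrier := {g | ∃ x ∈ e0List, K.f x = g}
  one_mem' := ⟨0, by decide +kernel, K.f_zero⟩
  mul_mem' := by
    rintro _ _ ⟨a, ha, rfl⟩ ⟨b, hb, rfl⟩
    have h := chk_e0
    simp only [List.all_eq_true, Bool.and_eq_true, List.contains_iff_mem] at h
    exact ⟨mul a b, (h a ha b hb).1.1, K.hmul (lt_of_e0 ha) (lt_of_e0 hb)⟩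
  inv_mem' := by
    rintro _ ⟨a, ha, rfl⟩
    have h := chk_e0
    simp only [List.all_eq_true, Bool.and_eq_true, beq_iff_eq] at h
    refine ⟨a, ha, eq_inv_of_mul_eq_one_right ?_⟩
    rw [← K.hmul (lt_of_e0 ha) (lt_of_e0 ha), (h a ha a ha).2, K.f_zero]

theorem f_mem_E {x : ℕ} (hx : x < 576) : K.f x ∈ K.E ↔ x ∈ e0List := by
  constructor
  · rintro ⟨y, hy, hyx⟩
    rwa [← K.hinj (lt_of_e0 hy) hx hyx]
  · exact fun h => ⟨x, h, rfl⟩

theorem t_mem_E : t ∈ K.E := ⟨24, by decide +kernel, K.f_t⟩

theorem E_comm {a b : G} (ha : a ∈ K.E) (hb : b ∈ K.E) : a * b = b * a := by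
  obtain ⟨x, hx, rfl⟩ := ha
  obtain ⟨y, hy, rfl⟩ := hb
  have h := chk_e0
  simp only [List.all_eq_true, Bool.and_eq_true] at h
  exact (K.comm_iff (lt_of_e0 hx) (lt_of_e0 hy)).2 (h x hx y hy).1.2

theorem E_sq {a : G} (ha : a ∈ K.E) : a * a = 1 := by
  obtain ⟨x, hx, rfl⟩ := ha
  have h := chk_e0
  simp only [List.all_eq_true, Bool.and_eq_true, beq_iff_eq] at h
  rw [← K.hmul (lt_of_e0 hx) (lt_of_e0 hx), (h x hx x hx).2, K.f_zero]

theorem card_E : Nat.card K.E = 16 := by
  classical
  have hset : (K.E : Set G) = ↑(e0List.toFinset.image K.f) := by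
    ext g
    simp only [Finset.coe_image, List.coe_toFinset, Set.mem_image, Set.mem_ofPred_eq, SetLike.mem_coe]
    rfl
  calc Nat.card K.E = (K.E : Set G).ncard := Nat.card_coe_set_eq _
    _ = (e0List.toFinset.image K.f).card := by rw [hset, Set.ncard_coe_finset]
    _ = e0List.toFinset.card := Finset.card_image_of_injOn (fun a ha b hb h => by
        simp only [Finset.mem_coe, List.mem_toFinset] at ha hb
        exact K.hinj (lt_of_e0 ha) (lt_of_e0 hb) h)
    _ = 16 := by decide +kernel

/-- The conjugate of `E` by `g`. -/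
def Econj (g : G) : Subgroup G := K.E.map (MulAut.conj g).toMonoidHom

theorem mem_Econj {g a : G} : a ∈ K.Econj g ↔ g⁻¹ * a * g ∈ K.E := by
  constructor
  · rintro ⟨b, hb, rfl⟩
    simpa [MulAut.conj_apply, mul_assoc] using hb
  · intro h
    exact ⟨_, h, by simp [MulAut.conj_apply, mul_assoc]⟩

theorem card_Econj (g : G) : Nat.card (K.Econj g) = 16 := by
  rw [← K.card_E]
  exact (Nat.card_congr (K.E.equivMapOfInjective _ (MulAut.conj g).injective).toEquiv).symm

theorem mem_Econj_eWit {j x : ℕ} (hj : j ∈ ([0, 1, 2] : List ℕ)) (hx : x < 576) :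
    K.f x ∈ K.Econj (K.f (eWit j)) ↔ inE j x = true := by
  have hw : eWit j < 576 := by revert j; decide +kernel
  have h := chk_eWit
  rw [List.all_eq_true] at h
  have h' := all576_spec (h j hj) x hx
  rw [beq_iff_eq] at h'
  rw [h', List.contains_iff_mem, List.mem_map]
  constructor
  · rintro ⟨b, ⟨y, hy, rfl⟩, hb⟩
    refine ⟨y, hy, K.hinj (conj_lt _ _) hx ?_⟩
    rw [K.f_conj hw (lt_of_e0 hy), ← hb]
    rfl
  · rintro ⟨y, hy, rfl⟩
    exact ⟨K.f y, ⟨y, hy, rfl⟩, (K.f_conj hw (lt_of_e0 hy)).symm⟩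

variable [Finite G]

theorem kind_t : kind 24 = 4 := by decide +kernel

/-- An elementary abelian subgroup of order at least 16 through `t` is conjugate to `E`. -/
theorem elementary_eq {A : Subgroup G} (htA : t ∈ A) (hc : ∀ a ∈ A, ∀ b ∈ A, a * b = b * a)
    (h2 : ∀ a ∈ A, a * a = 1) (hA : 16 ≤ Nat.card A) :
    ∃ c, c * t = t * c ∧ A = K.Econj c := by
  classical
  have hcode : ∀ a ∈ A, a = 1 ∨ ∃ x ∈ invols, K.f x = a := fun a ha => by
    refine or_iff_not_imp_left.2 fun hne => K.exists_invol (hc a ha t htA) ?_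
    exact orderOf_eq_prime (by rw [pow_two, h2 a ha]) hne
  by_cases hx : ∃ x ∈ invols, K.f x ∈ A ∧ kind x ≠ 3 ∧ kind x ≠ 4
  · obtain ⟨x, hxi, hxA, hx3, hx4⟩ := hx
    have hx' := lt_of_invols hxi
    have hp := chk_pair
    have hu := chk_uniq
    simp only [List.all_eq_true, Bool.or_eq_true, beq_iff_eq, hx3, hx4, false_or,
      List.any_eq_true, Bool.and_eq_true] at hp hu
    have hp' := (hp x hxi).resolve_left (by simp [hx3, hx4])
    have hu' := (hu x hxi).resolve_left (by simp [hx3, hx4])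
    obtain ⟨j, hj⟩ := List.length_eq_one_iff.1 hu'
    have hjj : j ∈ ([0, 1, 2] : List ℕ) ∧ inE j x = true := by
      have : j ∈ [j] := List.mem_singleton_self j
      rw [← hj, List.mem_filter] at this
      exact this
    have hw : eWit j < 576 := by
      have := hjj.1
      clear * - this
      revert j; decide +kernel
    refine ⟨K.f (eWit j), K.f_mem hw, ?_⟩
    refine Subgroup.eq_of_le_of_card_ge (fun a ha => ?_) (by rw [K.card_Econj]; exact hA)
    rcases hcode a ha with rfl | ⟨y, hy, rfl⟩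
    · exact one_mem _
    have hy' := lt_of_invols hy
    rcases hp' y hy with hn | ⟨i, hi, hix, hiy⟩
    · rw [(K.comm_iff hx' hy').1 (hc _ hxA _ ha)] at hn
      simp at hn
    have hij : i = j := by
      have : i ∈ ([0, 1, 2] : List ℕ).filter fun i => inE i x :=
        List.mem_filter.2 ⟨hi, hix⟩
      rw [hj] at this
      exact List.mem_singleton.1 this
    rw [K.mem_Econj_eWit hjj.1 hy', ← hij]
    exact hiy
  · push Not at hx
    exfalso
    by_cases he : ∃ x ∈ invols, K.f x ∈ A ∧ kind x = 3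
    · obtain ⟨e, hei, heA, he3⟩ := he
      have hl := chk_few
      simp only [List.all_eq_true, Bool.or_eq_true, bne_iff_ne, decide_eq_true_eq] at hl
      have hl' := (hl e hei).resolve_left (by simp [he3])
      set L := (invols.filter fun y => kind y == 3 && comm e y).toFinset ∪ {0, 24} with hL
      have hsub : (A : Set G) ⊆ ↑(L.image K.f) := by
        intro a ha
        rw [Finset.coe_image]
        rcases hcode a ha with rfl | ⟨y, hy, rfl⟩
        · exact ⟨0, by simp [hL], K.f_zero⟩
        refine ⟨y, ?_, rfl⟩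
        by_cases h4 : kind y = 4
        · simp [hL, eq_of_kind_four (lt_of_invols hy) h4]
        have h3 : kind y = 3 := by
          by_contra h3
          exact h4 (hx y hy ha h3)
        simp only [hL, Finset.coe_union, Set.mem_union, Finset.mem_coe, List.mem_toFinset,
          List.mem_filter, Bool.and_eq_true, beq_iff_eq]
        exact Or.inl ⟨hy, h3, (K.comm_iff (lt_of_invols hei) (lt_of_invols hy)).1 (hc _ heA _ ha)⟩
      have h1 := Set.ncard_le_ncard hsub (Finset.finite_toSet _)
      rw [← Nat.card_coe_set_eq, Set.ncard_coe_finset] at h1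
      have h4 : ({0, 24} : Finset ℕ).card ≤ 2 := Finset.card_le_two
      have h5 := Finset.card_union_le (invols.filter fun y => kind y == 3 && comm e y).toFinset {0, 24}
      have h6 := List.toFinset_card_le (invols.filter fun y => kind y == 3 && comm e y)
      have h7 := Finset.card_image_le (s := L) (f := K.f)
      rw [hL] at h7 h1
      change 16 ≤ Nat.card (A : Set G) at hA
      omega
    · push Not at he
      have hsub : (A : Set G) ⊆ ↑(({1, t} : Finset G)) := by
        intro a ha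
        rcases hcode a ha with rfl | ⟨y, hy, rfl⟩
        · simp
        have h4 : kind y = 4 := hx y hy ha (he y hy ha)
        simp [eq_of_kind_four (lt_of_invols hy) h4, K.f_t]
      have h1 := Set.ncard_le_ncard hsub (Finset.finite_toSet _)
      rw [← Nat.card_coe_set_eq, Set.ncard_coe_finset] at h1
      have h4 : ({1, t} : Finset G).card ≤ 2 := Finset.card_le_two
      change 16 ≤ Nat.card (A : Set G) at hA
      omega

end Cent

end Cfsg.Agent.PSpCent
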