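import Cfsg.Agent.Lib.PSpCent.Normalizer

/-!
# The centraliser of an involution of the second class
-/

set_option autoImplicit false
set_option linter.style.haveILetI false

namespace Cfsg.Agent.PSpCent

open Cfsg

theorem chk_xprod : mul (mul 75 375) 575 = 25 ∧ mul 24 1 = 25 ∧ comm 75 25 = true ∧
    comm 375 25 = true ∧ comm 575 25 = true := by decide +kernel

theorem chk_rest : ∀ j ∈ ([75, 375, 575] : List ℕ), j ∈ five ∧ j ≠ 24 ∧ j ≠ 1 ∧ j ∈ e0List := by
  decide +kernel

namespace Cent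

variable {G : Type*} [Group G] {t : G} (K : Cent G t) (hK : Good K)

theorem Econj_comm {g a b : G} (ha : a ∈ K.Econj g) (hb : b ∈ K.Econj g) : a * b = b * a := by
  have := K.E_comm (K.mem_Econj.1 ha) (K.mem_Econj.1 hb)
  calc a * b = g * (g⁻¹ * a * g * (g⁻¹ * b * g)) * g⁻¹ := by group
    _ = g * (g⁻¹ * b * g * (g⁻¹ * a * g)) * g⁻¹ := by rw [this]
    _ = b * a := by group

theorem Econj_sq {g a : G} (ha : a ∈ K.Econj g) : a * a = 1 := by
  have := K.E_sq (K.mem_Econj.1 ha)
  calc a * a = g * (g⁻¹ * a * g * (g⁻¹ * a * g)) * g⁻¹ := by group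
    _ = 1 := by rw [this]; group

theorem conj_mem_Econj {g v : G} (hv : v ∈ K.E) : g * v * g⁻¹ ∈ K.Econj g :=
  K.mem_Econj.2 (by
    have : g⁻¹ * (g * v * g⁻¹) * g = v := by group
    rwa [this])

theorem e_eq : K.f 25 = t * K.f 1 := by
  rw [← chk_xprod.2.1, K.hmul (by norm_num) (by norm_num), K.f_t]

theorem one_mem_E : K.f 1 ∈ K.E := ⟨1, by decide +kernel, rfl⟩

theorem e_mem_E : K.f 25 ∈ K.E := ⟨25, by decide +kernel, rfl⟩

theorem one_ne_t : K.f 1 ≠ t := fun h => by
  have := K.hinj (by norm_num) (by norm_num) (h.trans K.f_t.symm)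
  omega

include hK

theorem isConj_one : IsConj t (K.f 1) :=
  ((K.tType_E hK).2 ⟨1, by decide +kernel, rfl⟩).2

theorem fixed_trivial [Finite G] {j : ℕ} (hj : j ∈ ([75, 375, 575] : List ℕ)) {g : G} {m : ℕ}
    (hm : Odd m) (hgm : g ^ m = 1) (hge : g * K.f 25 = K.f 25 * g)
    (hgx : g * K.f j = K.f j * g) : g = 1 := by
  have hj5 := chk_rest j hj
  obtain ⟨hjE, hjt⟩ := (K.tType_E hK).2 ⟨j, hj5.1, rfl⟩
  have hj' := lt_of_e0 (chk_five_sub j hj5.1).1
  obtain ⟨n, hn, hna⟩ := K.exists_norm hjE hjt.symm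
  obtain ⟨a, ha, hae⟩ := (K.tType_E hK).1
    ⟨K.mem_N.1 hn t K.t_mem_E, isConj_iff.2 ⟨n, rfl⟩⟩
  obtain ⟨b, hb, hbe⟩ := (K.tType_E hK).1
    ⟨K.mem_N.1 hn _ K.one_mem_E, (K.isConj_one hK).trans (isConj_iff.2 ⟨n, rfl⟩)⟩
  have inj : ∀ u v : G, n * u * n⁻¹ = n * v * n⁻¹ → u = v := fun u v h =>
    mul_left_cancel (mul_right_cancel h)
  have hla := lt_of_e0 (chk_five_sub a ha).1
  have hlb := lt_of_e0 (chk_five_sub b hb).1
  have ha24 : a ≠ 24 := by
    rintro rfl
    have := K.hinj (by norm_num) hj'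
      (K.f_t.trans (inj _ _ ((hae.symm.trans K.f_t).trans hna.symm)))
    omega
  have hb24 : b ≠ 24 := by
    rintro rfl
    have := K.hinj (by norm_num) hj' (inj _ _ ((hbe.symm.trans K.f_t).trans hna.symm))
    omega
  have hab : a ≠ b := by
    rintro rfl
    exact K.one_ne_t (inj _ _ (hbe.symm.trans hae))
  have hk := chk_four_mul
  simp only [List.all_eq_true, Bool.or_eq_true, beq_iff_eq] at hk
  have hk3 := (hk a (chk_four a ha ha24) b (chk_four b hb hb24)).resolve_left hab
  have hyi : mul a b ∈ invols := (mem_invols (mul_lt _ _)).2 (by omega)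
  have he : n * K.f 25 * n⁻¹ = K.f (mul a b) := by
    rw [K.hmul hla hlb, hae, hbe, K.e_eq]
    group
  have hcomm : n * g * n⁻¹ * t = t * (n * g * n⁻¹) := by
    calc n * g * n⁻¹ * t = n * g * n⁻¹ * (n * K.f j * n⁻¹) := congrArg (n * g * n⁻¹ * ·) hna.symm
      _ = n * (g * K.f j) * n⁻¹ := by group
      _ = n * (K.f j * g) * n⁻¹ := by rw [hgx]
      _ = n * K.f j * n⁻¹ * (n * g * n⁻¹) := by group
      _ = t * (n * g * n⁻¹) := congrArg (· * (n * g * n⁻¹)) hna
  obtain ⟨z, hz, hze⟩ := (K.mem_iff _).1 hcomm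
  have hzy : comm (mul a b) z = true := (K.comm_iff (mul_lt _ _) hz).1 (by
    rw [← he, hze]
    calc n * K.f 25 * n⁻¹ * (n * g * n⁻¹) = n * (K.f 25 * g) * n⁻¹ := by group
      _ = n * (g * K.f 25) * n⁻¹ := by rw [hge]
      _ = n * g * n⁻¹ * (n * K.f 25 * n⁻¹) := by group)
  have h8 := chk_cent_three
  simp only [List.all_eq_true, Bool.or_eq_true, bne_iff_ne] at h8
  have h9 := all576_spec ((h8 _ hyi).resolve_left (by simp [hk3])) z hz
  simp only [Bool.or_eq_true, hzy, Bool.not_true, Bool.false_eq_true, false_or, beq_iff_eq] at h9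
  have h10 : g ^ 8 = 1 := by
    have : (n * g * n⁻¹) ^ 8 = 1 := by rw [← hze, ← K.f_pw hz, h9, K.f_zero]
    rwa [← MulAut.conj_apply, ← map_pow, MulEquiv.map_eq_one_iff] at this
  have h1 := Nat.dvd_gcd (orderOf_dvd_of_pow_eq_one hgm) (orderOf_dvd_of_pow_eq_one h10)
  rw [(Nat.Coprime.pow_right 3 hm.coprime_two_right : Nat.Coprime m (2 ^ 3))] at h1
  exact orderOf_eq_one_iff.1 (Nat.dvd_one.1 h1)

theorem swap_or_fix [Finite G] {g : G} (hg : g * K.f 25 = K.f 25 * g) :
    g * t * g⁻¹ = t ∨ g * t * g⁻¹ = K.f 1 := by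
  classical
  let M := Subgroup.centralizer ({K.f 25} : Set G)
  have memM : ∀ {a : G}, a ∈ M ↔ a * K.f 25 = K.f 25 * a := fun {a} =>
    Subgroup.mem_centralizer_singleton_iff
  let eM : ↥M := ⟨K.f 25, memM.2 rfl⟩
  let tM : ↥M := ⟨t, memM.2 (K.E_comm K.t_mem_E K.e_mem_E)⟩
  haveI hZn : (Subgroup.zpowers eM).Normal := ⟨fun a ha b => by
    obtain ⟨k, rfl⟩ := ha
    have : Commute b eM := Subtype.ext (memM.1 b.2)
    simpa only [(this.zpow_right k).eq, mul_inv_cancel_right] using
      Subgroup.zpow_mem_zpowers eM k⟩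
  have hee : eM * eM = 1 := Subtype.ext (K.E_sq K.e_mem_E)
  have hZ : ∀ a : ↥M, a ∈ Subgroup.zpowers eM → a = 1 ∨ a = eM := by
    rintro a ⟨k, rfl⟩
    obtain ⟨i, rfl | rfl⟩ := Int.even_or_odd' k
    · exact Or.inl (by simp [zpow_mul, pow_two, hee])
    · exact Or.inr (by simp [zpow_add, zpow_mul, pow_two, hee])
  have hmk : ∀ a b : ↥M, (QuotientGroup.mk a : ↥M ⧸ Subgroup.zpowers eM) = QuotientGroup.mk b →
      b = a ∨ b = a * eM := fun a b h => by
    rcases hZ _ (QuotientGroup.eq.1 h) with h | h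
    · exact Or.inl (by simpa [inv_mul_eq_one] using (inv_mul_eq_one.1 h).symm)
    · exact Or.inr (inv_mul_eq_iff_eq_mul.1 h)
  let π : ↥M →* ↥M ⧸ Subgroup.zpowers eM := QuotientGroup.mk' _
  have hπe : π eM = 1 :=
    (QuotientGroup.eq_one_iff _).2 (Subgroup.mem_zpowers _)
  -- the image of `t` is isolated
  have hiso : IsIsolatedInvolution (π tM) := by
    refine ⟨orderOf_eq_prime ?_ fun h => ?_, fun q hq => ?_⟩
    · rw [pow_two, ← map_mul, show tM * tM = 1 from Subtype.ext (K.E_sq K.t_mem_E), map_one]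
    · rcases hZ _ ((QuotientGroup.eq_one_iff _).1 h) with h | h
      · have ht1 : t = 1 := congrArg Subtype.val h
        simpa [ht1] using K.t_order
      · exact hK.not_two (by rw [show K.f 25 = t from (congrArg Subtype.val h).symm])
    obtain ⟨a, rfl⟩ := QuotientGroup.mk'_surjective (Subgroup.zpowers eM) q
    set pM := a * tM * a⁻¹ with hp
    have hae : (a : G) * K.f 25 = K.f 25 * a := memM.1 a.2
    have hq' : π (tM * pM) = π (pM * tM) := by
      rw [map_mul, map_mul, hp, map_mul, map_mul, map_inv]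
      exact hq
    show π a * π tM * (π a)⁻¹ = π tM
    rw [← map_inv, ← map_mul, ← map_mul, ← hp]
    rcases hmk _ _ hq' with h | h
    · -- commuting conjugates
      have hpt : (a : G) * t * (a : G)⁻¹ * t = t * ((a : G) * t * (a : G)⁻¹) := congrArg Subtype.val h
      obtain ⟨y, hy, hye⟩ := K.exists_invol hpt
        (by rw [← MulAut.conj_apply, (MulAut.conj (a : G)).orderOf_eq, K.t_order])
      have hy' := lt_of_invols hy
      have hty : IsConj t (K.f y) := hye ▸ isConj_iff.2 ⟨_, rfl⟩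
      have hcy : comm y 25 = true := (K.comm_iff hy' (by norm_num)).1 (by
        rw [hye]
        calc (a : G) * t * (a : G)⁻¹ * K.f 25 = (a : G) * (t * K.f 25) * (a : G)⁻¹ := by
              rw [mul_assoc _ _ (K.f 25), show (a : G)⁻¹ * K.f 25 = K.f 25 * (a : G)⁻¹ by
                rw [eq_mul_inv_iff_mul_eq, mul_assoc, ← hae, inv_mul_cancel_left]]
              group
          _ = (a : G) * (K.f 25 * t) * (a : G)⁻¹ := by rw [K.E_comm K.t_mem_E K.e_mem_E]
          _ = K.f 25 * ((a : G) * t * (a : G)⁻¹) := by rw [← mul_assoc (a : G), hae]; group)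
      have hye1 : K.f (mul y 25) = (a : G) * K.f 1 * (a : G)⁻¹ := by
        rw [K.hmul hy' (by norm_num), hye]
        calc (a : G) * t * (a : G)⁻¹ * K.f 25
            = (a : G) * t * ((a : G)⁻¹ * K.f 25 * (a : G)) * (a : G)⁻¹ := by group
          _ = (a : G) * t * K.f 25 * (a : G)⁻¹ := by
              rw [show (a : G)⁻¹ * K.f 25 * (a : G) = K.f 25 by
                rw [mul_assoc, ← hae, inv_mul_cancel_left]]
          _ = (a : G) * K.f 1 * (a : G)⁻¹ := by
              rw [mul_assoc (a : G), K.e_eq, ← mul_assoc t, K.E_sq K.t_mem_E, one_mul]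
      have hty2 : IsConj t (K.f (mul y 25)) :=
        hye1 ▸ (K.isConj_one hK).trans (isConj_iff.2 ⟨_, rfl⟩)
      have hyi2 : mul y 25 ∈ invols := (K.orderOf_f (mul_lt _ _)).1 (by
        obtain ⟨c, hc⟩ := isConj_iff.1 hty2
        rw [← hc, ← MulAut.conj_apply, (MulAut.conj c).orderOf_eq, K.t_order])
      have hc1 := chk_case_one
      simp only [List.all_eq_true, Bool.or_eq_true, beq_iff_eq] at hc1
      rcases hc1 y hy with (h' | rfl) | rfl
      · simp only [Bool.not_eq_true', Bool.and_eq_false_iff, Bool.or_eq_false_iff,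
          beq_eq_false_iff_ne] at h'
        rcases h' with (h' | h') | h'
        · rcases (K.isConj_code hK hy).1.1 hty with c | c <;> simp [c] at h'
        · simp [hcy] at h'
        · rcases (K.isConj_code hK hyi2).1.1 hty2 with c | c <;> simp [c] at h'
      · rw [show pM = tM from Subtype.ext (hye.symm.trans K.f_t)]
      · have : pM = tM * eM := Subtype.ext (by
          show (a : G) * t * (a : G)⁻¹ = t * K.f 25
          rw [← hye, K.e_eq, ← mul_assoc, K.E_sq K.t_mem_E, one_mul])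
        rw [this, map_mul, hπe, mul_one]
    · -- `t` would be moved to `f 1` by a conjugate of `t`
      exfalso
      have hpt : (a : G) * t * (a : G)⁻¹ * t = t * ((a : G) * t * (a : G)⁻¹) * K.f 25 :=
        congrArg Subtype.val h
      set u := (a : G)⁻¹ * t * (a : G) with hu
      have hu1 : u * t * u⁻¹ = K.f 1 := by
        have hti : t⁻¹ = t := inv_eq_of_mul_eq_one_right (K.E_sq K.t_mem_E)
        calc u * t * u⁻¹ = (a : G)⁻¹ * (t * ((a : G) * t * (a : G)⁻¹ * t)) * (a : G) := by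
              rw [hu]
              simp only [mul_inv_rev, inv_inv, hti]
              group
          _ = (a : G)⁻¹ * (t * t * ((a : G) * t * (a : G)⁻¹) * K.f 25) * (a : G) := by
              rw [hpt]; group
          _ = t * ((a : G)⁻¹ * K.f 25 * (a : G)) := by rw [K.E_sq K.t_mem_E]; group
          _ = K.f 1 := by
              rw [mul_assoc (a : G)⁻¹, ← hae, inv_mul_cancel_left, K.e_eq, ← mul_assoc,
                K.E_sq K.t_mem_E, one_mul]
      have huu : u * u = 1 := by
        calc u * u = (a : G)⁻¹ * (t * t) * (a : G) := by rw [hu]; group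
          _ = 1 := by rw [K.E_sq K.t_mem_E]; group
      have hu2 : u * K.f 1 * u⁻¹ = t := by
        rw [← hu1]
        calc u * (u * t * u⁻¹) * u⁻¹ = (u * u) * t * (u * u)⁻¹ := by group
          _ = t := by rw [huu]; group
      have hm1 := K.conj_mem_Econj (g := u) K.one_mem_E
      rw [hu2] at hm1
      have hm2 := K.conj_mem_Econj (g := u) K.t_mem_E
      rw [hu1] at hm2
      have hEq : K.Econj u = K.E := K.eq_E_of_mem hm1 hm2 (fun x hx y hy => K.Econj_comm hx hy)
        (fun x hx => K.Econj_sq hx) (by rw [K.card_Econj])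
      have huN : u ∈ K.N := K.mem_N.2 fun v hv => by
        rw [← hEq]
        exact K.conj_mem_Econj hv
      have huE := K.tType_mem_E hK huN
        (isConj_iff.2 ⟨(a : G)⁻¹, by rw [inv_inv]⟩)
      refine K.one_ne_t ?_
      rw [← hu1, K.E_comm huE K.t_mem_E, mul_inv_cancel_right]
  have hz := ZStar.inZStar hiso
  -- the odd core of the quotient is trivial
  have hO : oddCore (↥M ⧸ Subgroup.zpowers eM) = ⊥ := by
    rw [Subgroup.eq_bot_iff_forall]
    intro r hr
    set R := oddCore (↥M ⧸ Subgroup.zpowers eM)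
    have hn : R.Normal := by infer_instance
    have hodd : ∀ s ∈ R, Odd (orderOf s) := fun s hs =>
      (PCore.odd_card_oddCore).of_dvd_nat (Subgroup.orderOf_dvd_natCard _ hs)
    have hinvert : ∀ j ∈ ([75, 375, 575] : List ℕ), ∀ (hjm : K.f j ∈ M), ∀ s ∈ R,
        π ⟨K.f j, hjm⟩ * s * (π ⟨K.f j, hjm⟩)⁻¹ = s⁻¹ := by
      intro j hj hjm s hs
      have hj0 : j ∈ e0List := (chk_rest j hj).2.2.2
      set X := π ⟨K.f j, hjm⟩ with hX
      have hXX : X * X = 1 := by
        rw [hX, ← map_mul, show (⟨K.f j, hjm⟩ : ↥M) * ⟨K.f j, hjm⟩ = 1 from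
          Subtype.ext (K.E_sq ⟨j, hj0, rfl⟩), map_one]
      have hfix : ∀ q ∈ R, X * q * X⁻¹ = q → q = 1 := by
        intro q hq hqX
        have hm := hodd q hq
        obtain ⟨a, rfl⟩ := QuotientGroup.mk'_surjective (Subgroup.zpowers eM) q
        change π a = 1
        set m := orderOf (π a) with hmdef
        have ham : a ^ m * a ^ m = 1 := by
          have h1 : π (a ^ m) = 1 := by rw [map_pow, pow_orderOf_eq_one]
          rcases hZ _ ((QuotientGroup.eq_one_iff _).1 h1) with h | h <;> rw [h]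
          · rw [one_mul]
          · exact hee
        obtain ⟨k, hk⟩ := hm
        set b := a ^ (m + 1) with hb
        have hbm : b ^ m = 1 := by
          rw [hb, ← pow_mul, show (m + 1) * m = (m + m) * (k + 1) by rw [hk]; ring, pow_mul,
            show a ^ (m + m) = 1 by rw [pow_add, ham], one_pow]
        have hπb : π b = π a := by
          rw [hb, map_pow, pow_succ, pow_orderOf_eq_one, one_mul]
        rcases hmk b (⟨K.f j, hjm⟩ * b * ⟨K.f j, hjm⟩⁻¹) (by
          show π b = π _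
          rw [map_mul, map_mul, map_inv, hπb]
          exact hqX.symm) with h | h
        · have hb1 : (b : G) = 1 := K.fixed_trivial hK hj ⟨k, hk⟩
            (by simpa using congrArg Subtype.val hbm) (memM.1 b.2)
            (mul_inv_eq_iff_eq_mul.1 (congrArg Subtype.val h :)).symm
          rw [← hπb, show b = 1 from Subtype.ext hb1, map_one]
        · exfalso
          have h1 : (⟨K.f j, hjm⟩ * b * ⟨K.f j, hjm⟩⁻¹ : ↥M) ^ m = 1 := by
            rw [← MulAut.conj_apply, ← map_pow, hbm, map_one]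
          have hcb : Commute b eM := Subtype.ext (memM.1 b.2)
          rw [h, hcb.mul_pow, hbm, one_mul, hk, pow_succ, pow_mul, pow_two, hee, one_pow,
            one_mul] at h1
          have := congrArg Subtype.val h1
          exact absurd (K.f_eq_one (by norm_num) this) (by norm_num)
      let φ : ↥R → ↥R := fun q => ⟨(q.1)⁻¹ * (X * q.1 * X⁻¹),
        mul_mem (inv_mem q.2) (hn.conj_mem _ q.2 _)⟩
      have hinj : Function.Injective φ := by
        intro q q' h
        have h' : q.1⁻¹ * (X * q.1 * X⁻¹) = q'.1⁻¹ * (X * q'.1 * X⁻¹) :=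
          congrArg Subtype.val h
        refine Subtype.ext (mul_inv_eq_one.1 (hfix _ (mul_mem q'.2 (inv_mem q.2)) ?_))
          |>.symm
        calc X * (q'.1 * q.1⁻¹) * X⁻¹
            = q'.1 * (q'.1⁻¹ * (X * q'.1 * X⁻¹)) * (X * q.1 * X⁻¹)⁻¹ := by group
          _ = q'.1 * q.1⁻¹ := by rw [← h']; group
      obtain ⟨⟨q, hq⟩, hq'⟩ := (Finite.injective_iff_surjective.1 hinj) ⟨s, hs⟩
      have hs' : q⁻¹ * (X * q * X⁻¹) = s := congrArg Subtype.val hq'
      rw [← hs']
      calc X * (q⁻¹ * (X * q * X⁻¹)) * X⁻¹ = X * q⁻¹ * X⁻¹ * ((X * X) * q * (X * X)⁻¹) := by group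
        _ = (q⁻¹ * (X * q * X⁻¹))⁻¹ := by rw [hXX]; group
    obtain ⟨e1, -, c1, c2, c3⟩ := chk_xprod
    have m1 : K.f 75 ∈ M := memM.2 ((K.comm_iff (by norm_num) (by norm_num)).2 c1)
    have m2 : K.f 375 ∈ M := memM.2 ((K.comm_iff (by norm_num) (by norm_num)).2 c2)
    have m3 : K.f 575 ∈ M := memM.2 ((K.comm_iff (by norm_num) (by norm_num)).2 c3)
    have hprod : π ⟨K.f 75, m1⟩ * π ⟨K.f 375, m2⟩ * π ⟨K.f 575, m3⟩ = 1 := by
      rw [← map_mul, ← map_mul, ← hπe]
      refine congrArg π (Subtype.ext ?_)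
      show K.f 75 * K.f 375 * K.f 575 = K.f 25
      rw [← K.hmul (by norm_num) (by norm_num), ← K.hmul (mul_lt _ _) (by norm_num), e1]
    have a3 := hinvert 575 (by simp) m3 r hr
    have a2 := hinvert 375 (by simp) m2 _ (inv_mem hr)
    rw [inv_inv] at a2
    have a1 := hinvert 75 (by simp) m1 r hr
    have hrr : r = r⁻¹ := by
      calc r = π ⟨K.f 75, m1⟩ * π ⟨K.f 375, m2⟩ * π ⟨K.f 575, m3⟩ * r *
            (π ⟨K.f 75, m1⟩ * π ⟨K.f 375, m2⟩ * π ⟨K.f 575, m3⟩)⁻¹ := by rw [hprod]; group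
        _ = π ⟨K.f 75, m1⟩ * (π ⟨K.f 375, m2⟩ * (π ⟨K.f 575, m3⟩ * r * (π ⟨K.f 575, m3⟩)⁻¹) *
            (π ⟨K.f 375, m2⟩)⁻¹) * (π ⟨K.f 75, m1⟩)⁻¹ := by group
        _ = r⁻¹ := by rw [a3, a2, a1]
    have h2 : orderOf r ∣ 2 := orderOf_dvd_of_pow_eq_one (by
      rw [pow_two]; exact mul_eq_one_iff_eq_inv.2 hrr)
    rcases (Nat.dvd_prime Nat.prime_two).1 h2 with h | h
    · exact orderOf_eq_one_iff.1 h
    · exact absurd (hodd r hr) (by rw [h]; decide)
  have hcen := ZStar.mem_center_of_oddCore_eq_bot hz hO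
  set gM : ↥M := ⟨g, memM.2 hg⟩
  have := Subgroup.mem_center_iff.1 hcen (π gM)
  rw [← map_mul, ← map_mul] at this
  rcases hmk _ _ this.symm with h | h
  · left
    have h' : g * t = t * g := congrArg Subtype.val h
    rw [h', mul_inv_cancel_right]
  · right
    have h' : g * t = t * g * K.f 25 := congrArg Subtype.val h
    rw [h', mul_assoc t, hg, ← mul_assoc, mul_inv_cancel_right, K.e_eq, ← mul_assoc,
      K.E_sq K.t_mem_E, one_mul]

/-- `C(e) ≤ N(E)`. -/
theorem cent_e_le_N [Finite G] {g : G} (hg : g * K.f 25 = K.f 25 * g) : g ∈ K.N := by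
  have hge : g * K.f 25 * g⁻¹ = K.f 25 := mul_inv_eq_iff_eq_mul.2 hg
  have key : g * t * g⁻¹ * (g * K.f 1 * g⁻¹) = K.f 25 := by
    rw [← hge, K.e_eq]; group
  have hx : g * K.f 1 * g⁻¹ = (g * t * g⁻¹)⁻¹ * K.f 25 := by rw [← key]; group
  have hEq : K.Econj g = K.E := by
    refine K.eq_E_of_mem ?_ ?_ (fun x hx y hy => K.Econj_comm hx hy) (fun x hx => K.Econj_sq hx)
      (by rw [K.card_Econj])
    · rcases K.swap_or_fix hK hg with h | h
      · have := K.conj_mem_Econj (g := g) K.t_mem_E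
        rwa [h] at this
      · have hp := K.conj_mem_Econj (g := g) K.one_mem_E
        rw [hx, h, inv_eq_of_mul_eq_one_right (K.E_sq K.one_mem_E), K.e_eq,
          K.E_comm K.t_mem_E K.one_mem_E, ← mul_assoc, K.E_sq K.one_mem_E, one_mul] at hp
        exact hp
    · rcases K.swap_or_fix hK hg with h | h
      · have hp := K.conj_mem_Econj (g := g) K.one_mem_E
        rw [hx, h, inv_eq_of_mul_eq_one_right (K.E_sq K.t_mem_E), K.e_eq, ← mul_assoc,
          K.E_sq K.t_mem_E, one_mul] at hp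
        exact hp
      · have := K.conj_mem_Econj (g := g) K.t_mem_E
        rwa [h] at this
  exact K.mem_N.2 fun v hv => hEq ▸ K.conj_mem_Econj hv

/-- The centraliser of an involution of the second class in `E` normalises `E`. -/
theorem eType_cent_le_N [Finite G] {v g : G} (hv : v ∈ K.E) (hc : IsConj (K.f 25) v)
    (hg : g * v = v * g) : g ∈ K.N := by
  obtain ⟨a, b, ha, hb, ha', hb', hne, rfl⟩ := K.exists_pair hK hv hc
  obtain ⟨n, hn, hna, hnb⟩ := K.pair_move hK ha hb ha' hb' hne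
  have he : n * (a * b) * n⁻¹ = K.f 25 := by
    rw [K.e_eq]
    calc n * (a * b) * n⁻¹ = n * a * n⁻¹ * (n * b * n⁻¹) := by group
      _ = t * (n * b * n⁻¹) := congrArg (· * (n * b * n⁻¹)) hna
      _ = t * K.f 1 := by rw [hnb]
  have h : n * g * n⁻¹ ∈ K.N := K.cent_e_le_N hK (by
    rw [← he]
    calc n * g * n⁻¹ * (n * (a * b) * n⁻¹) = n * (g * (a * b)) * n⁻¹ := by group
      _ = n * (a * b * g) * n⁻¹ := by rw [hg]
      _ = n * (a * b) * n⁻¹ * (n * g * n⁻¹) := by group)
  simpa [mul_assoc] using mul_mem (mul_mem (inv_mem hn) h) hn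

theorem card_cent_e [Finite G] : Nat.card (Subgroup.centralizer ({K.f 25} : Set G)) = 96 := by
  classical
  set M := Subgroup.centralizer ({K.f 25} : Set G) with hM
  have memM : ∀ {a : G}, a ∈ M ↔ a * K.f 25 = K.f 25 * a := fun {a} =>
    Subgroup.mem_centralizer_singleton_iff
  have htM : t ∈ M := memM.2 (K.E_comm K.t_mem_E K.e_mem_E)
  have h1 : Nat.card (Subgroup.centralizer ({⟨t, htM⟩} : Set ↥M)) = 48 := by
    have hset : Subtype.val '' (Subgroup.centralizer ({⟨t, htM⟩} : Set ↥M) : Set ↥M) =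
        ↑(((List.range 576).filter fun x => comm x 25).toFinset.image K.f) := by
      ext g
      simp only [Finset.coe_image, List.coe_toFinset, Set.mem_image, Set.mem_ofPred_eq,
        List.mem_filter, List.mem_range, SetLike.mem_coe, Subgroup.mem_centralizer_singleton_iff]
      constructor
      · rintro ⟨n, hn, rfl⟩
        obtain ⟨c, hc, he⟩ := (K.mem_iff n.1).1 (by simpa using congrArg Subtype.val hn)
        exact ⟨c, ⟨hc, (K.comm_iff hc (by norm_num)).1 (he ▸ memM.1 n.2)⟩, he⟩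
      · rintro ⟨c, ⟨hc, hcn⟩, rfl⟩
        exact ⟨⟨_, memM.2 ((K.comm_iff hc (by norm_num)).2 hcn)⟩, Subtype.ext (K.f_mem hc), rfl⟩
    calc Nat.card (Subgroup.centralizer ({⟨t, htM⟩} : Set ↥M))
        = (Subtype.val '' (Subgroup.centralizer ({⟨t, htM⟩} : Set ↥M) : Set ↥M)).ncard := by
          rw [Set.ncard_image_of_injective _ Subtype.val_injective]
          exact Nat.card_coe_set_eq _
      _ = (((List.range 576).filter fun x => comm x 25).toFinset.image K.f).card := by
          rw [hset, Set.ncard_coe_finset]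
      _ = ((List.range 576).filter fun x => comm x 25).toFinset.card :=
          Finset.card_image_of_injOn (fun a ha b hb h => by
            simp only [Finset.mem_coe, List.mem_toFinset, List.mem_filter, List.mem_range] at ha hb
            exact K.hinj ha.1 hb.1 h)
      _ = 48 := by
          rw [List.toFinset_card_of_nodup (List.Nodup.filter _ List.nodup_range), chk_cent_e]
  obtain ⟨s, hs, hs1, hst⟩ := K.pair_move hK K.one_mem_E K.t_mem_E (K.isConj_one hK) (IsConj.refl t)
    K.one_ne_t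
  have hsM : s ∈ M := memM.2 (mul_inv_eq_iff_eq_mul.1 (by
    have : s * (t * K.f 1) * s⁻¹ = s * t * s⁻¹ * (s * K.f 1 * s⁻¹) := by group
    conv_lhs => rw [K.e_eq, this, hst]
    rw [show s * K.f 1 * s⁻¹ = t from hs1, K.E_comm K.one_mem_E K.t_mem_E, ← K.e_eq]))
  let A : Finset ↥M := {⟨t, htM⟩, ⟨K.f 1, memM.2 (K.E_comm K.one_mem_E K.e_mem_E)⟩}
  have hA : {u : ↥M | IsConj ⟨t, htM⟩ u} = ↑A := by
    ext u
    simp only [Set.mem_ofPred_eq, A, Finset.coe_insert, Finset.coe_singleton, Set.mem_insert_iff,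
      Set.mem_singleton_iff]
    constructor
    · intro h
      obtain ⟨a, ha⟩ := isConj_iff.1 h
      have ha' : (a : G) * t * (a : G)⁻¹ = u := congrArg Subtype.val ha
      rcases K.swap_or_fix hK (memM.1 a.2) with h' | h'
      · exact Or.inl (Subtype.ext (ha'.symm.trans h'))
      · exact Or.inr (Subtype.ext (ha'.symm.trans h'))
    · rintro (rfl | rfl)
      · exact IsConj.refl _
      · exact isConj_iff.2 ⟨⟨s, hsM⟩, Subtype.ext hst⟩
  have h2 : Nat.card {u : ↥M // IsConj ⟨t, htM⟩ u} = 2 := by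
    rw [show Nat.card {u : ↥M // IsConj ⟨t, htM⟩ u} = ({u : ↥M | IsConj ⟨t, htM⟩ u}).ncard from
      Nat.card_coe_set_eq _, hA, Set.ncard_coe_finset]
    refine Finset.card_pair fun h => K.one_ne_t ?_
    exact (congrArg Subtype.val h).symm
  rw [← Subgroup.card_mul_index (Subgroup.centralizer ({⟨t, htM⟩} : Set ↥M)),
    ← Involution.card_conjugates, h1, h2]

end Cent

end Cfsg.Agent.PSpCent
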