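import Cfsg.Agent.Lib.PSpCent.Fusion

/-!
# Exactly two classes of involutions
-/

set_option autoImplicit false
set_option linter.style.haveILetI false

namespace Cfsg.Agent.PSpCent

open Cfsg

theorem mem_invols_of_e0 : ∀ y ∈ e0List, y = 0 ∨ y ∈ invols := by decide +kernel

theorem chk_kind_mul_t :
    (invols.all fun y => (kind y != 1 || kind (mul y 24) == 2) && (kind y != 2 || kind (mul y 24) == 1))
      = true := by decide +kernel

theorem chk_e0_one : (e0List.all fun y => kind y != 1 || ([1, 75, 375, 575] : List Nat).contains y)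
    = true := by decide +kernel

/-- Moves the four to `1`. -/
def trWit : Nat → Nat
  | 75 => 2
  | 375 => 14
  | 575 => 22
  | _ => 0

theorem chk_trWit : (([1, 75, 375, 575] : List Nat).all fun a =>
    conj (trWit a) a == 1 && nrm (trWit a) && decide (trWit a < 576)) = true := by decide +kernel

theorem bad_kind : ∀ a ∈ e0List, ∀ b ∈ e0List, kind a = kind b →
    kind a = kind (mul 1 (mul a b)) → kind (mul 25 a) = kind (mul 25 b) →
    kind (mul 25 a) = kind (mul 25 (mul 1 (mul a b))) → kind (mul 24 a) = kind (mul 24 b) →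
    kind (mul 24 a) = kind (mul 24 (mul 1 (mul a b))) → kind (mul 1 a) = kind (mul 1 b) →
    kind (mul 1 a) = kind (mul 1 (mul 1 (mul a b))) → a ∉ ([0, 1, 24, 25] : List ℕ) →
    b ∉ ([0, 1, 24, 25] : List ℕ) → mul a b ∉ ([0, 1, 24, 25] : List ℕ) → kind a = 2 := by
  decide +kernel

theorem nrm_spec {c v : ℕ} (h : nrm c = true) (hv : v ∈ e0List) : conj c v ∈ e0List := by
  simp only [nrm, List.all_eq_true, List.contains_iff_mem] at h
  exact h v hv

namespace Cent

variable {G : Type*} [Group G] {t : G} (K : Cent G t)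

/-- The normaliser of `E`. -/
def N : Subgroup G := Subgroup.normalizer (K.E : Set G)

theorem mem_N [Finite G] {g : G} : g ∈ K.N ↔ ∀ v ∈ K.E, g * v * g⁻¹ ∈ K.E := by
  refine ⟨fun h v hv => (Subgroup.mem_normalizer_iff.1 h v).1 hv, fun h => ?_⟩
  have hle : K.Econj g ≤ K.E := fun a ha => by
    have := h _ (K.mem_Econj.1 ha)
    simpa [mul_assoc] using this
  have heq : K.Econj g = K.E :=
    Subgroup.eq_of_le_of_card_ge hle (by rw [K.card_Econj, K.card_E])
  refine Subgroup.mem_normalizer_iff.2 fun v => ⟨h v, fun hv => ?_⟩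
  have := K.mem_Econj.1 (heq.ge hv)
  simpa [mul_assoc] using this

theorem f_mem_N [Finite G] {c : ℕ} (hc : c < 576) (h : nrm c = true) : K.f c ∈ K.N := by
  refine K.mem_N.2 ?_
  rintro _ ⟨v, hv, rfl⟩
  rw [← K.f_conj hc (lt_of_e0 hv)]
  exact ⟨_, nrm_spec h hv, rfl⟩

theorem exists_norm [Finite G] {a : G} (ha : a ∈ K.E) (hc : IsConj a t) :
    ∃ g ∈ K.N, g * a * g⁻¹ = t := by
  obtain ⟨g₀, hg₀⟩ := isConj_iff.1 hc
  obtain ⟨c, hct, hEq⟩ := K.elementary_eq (A := K.Econj g₀)
    (K.mem_Econj.2 (by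
      have : g₀⁻¹ * t * g₀ = a := by rw [← hg₀]; group
      rwa [this]))
    (fun x hx y hy => by
      have := K.E_comm (K.mem_Econj.1 hx) (K.mem_Econj.1 hy)
      calc x * y = g₀ * (g₀⁻¹ * x * g₀ * (g₀⁻¹ * y * g₀)) * g₀⁻¹ := by group
        _ = g₀ * (g₀⁻¹ * y * g₀ * (g₀⁻¹ * x * g₀)) * g₀⁻¹ := by rw [this]
        _ = y * x := by group)
    (fun x hx => by
      have := K.E_sq (K.mem_Econj.1 hx)
      calc x * x = g₀ * (g₀⁻¹ * x * g₀ * (g₀⁻¹ * x * g₀)) * g₀⁻¹ := by group
        _ = 1 := by rw [this]; group)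
    (by rw [K.card_Econj])
  refine ⟨c⁻¹ * g₀, K.mem_N.2 fun v hv => ?_, ?_⟩
  · have h1 : g₀ * v * g₀⁻¹ ∈ K.Econj g₀ := K.mem_Econj.2 (by
      have : g₀⁻¹ * (g₀ * v * g₀⁻¹) * g₀ = v := by group
      rwa [this])
    rw [hEq, K.mem_Econj] at h1
    simpa [mul_assoc] using h1
  · calc c⁻¹ * g₀ * a * (c⁻¹ * g₀)⁻¹ = c⁻¹ * (g₀ * a * g₀⁻¹) * c := by group
      _ = c⁻¹ * (c * t) := by rw [hg₀, hct, mul_assoc]
      _ = t := by group

/-- Some class besides that of `t` is fused to `t`. -/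
theorem some_conj_t [Finite G] (hG : ∀ H : Subgroup G, H.index ≠ 2) :
    IsConj (K.f 1) t ∨ IsConj (K.f 25) t ∨ IsConj (K.f 50) t := by
  by_contra hcon
  push Not at hcon
  obtain ⟨h1, h2, h3⟩ := hcon
  have hiso : IsIsolatedInvolution t := by
    refine ⟨K.t_order, fun g hg => ?_⟩
    obtain ⟨x, hx, he⟩ := K.exists_invol hg.eq.symm
      (by rw [← MulAut.conj_apply, (MulAut.conj g).orderOf_eq, K.t_order])
    have hr : IsConj (K.f (rep (kind x))) t :=
      (K.isConj_rep hx).trans (by rw [he]; exact (isConj_iff.2 ⟨g, rfl⟩).symm)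
    have hk := kind_le (lt_of_invols hx)
    have hk0 := (mem_invols (lt_of_invols hx)).1 hx
    rcases (show kind x = 1 ∨ kind x = 2 ∨ kind x = 3 ∨ kind x = 4 by omega) with h | h | h | h
    · exact absurd (by simpa [h, rep] using hr) h1
    · exact absurd (by simpa [h, rep] using hr) h2
    · exact absurd (by simpa [h, rep] using hr) h3
    · rw [← he, eq_of_kind_four (lt_of_invols hx) h, K.f_t]
  have hz := ZStar.inZStar hiso
  obtain ⟨g, hg⟩ := isConj_iff.1 ((K.rep_or_t hG (Or.inl rfl)).resolve_left h1).symm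
  set o := g * t * g⁻¹ * t⁻¹ with ho
  have hoO : o ∈ pPrimeCore 2 G := hz g
  have htt : t * t = 1 := by rw [← pow_two, ← K.t_order, pow_orderOf_eq_one]
  have hti : t⁻¹ = t := inv_eq_of_mul_eq_one_right htt
  have hto : t * o * t⁻¹ = o⁻¹ := by
    rw [ho]
    simp only [mul_inv_rev, inv_inv, hti]
    simp [mul_assoc, htt]
  have hodd : Odd (orderOf o) := by
    have h := (PCore.odd_card_oddCore (G := G))
    have hd : orderOf o ∣ Nat.card (pPrimeCore 2 G) := Subgroup.orderOf_dvd_natCard _ hoO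
    exact h.of_dvd_nat hd
  set d := o ^ ((orderOf o + 1) / 2) with hd
  have hdd : d * d = o := by
    obtain ⟨k, hk⟩ := hodd
    rw [hd, ← pow_add, show (orderOf o + 1) / 2 + (orderOf o + 1) / 2 = orderOf o + 1 by omega,
      pow_succ, pow_orderOf_eq_one, one_mul]
  have htd : t * d * t⁻¹ = d⁻¹ := by
    rw [hd, ← MulAut.conj_apply, map_pow, MulAut.conj_apply, hto, inv_pow]
  have hdO : d ∈ pPrimeCore 2 G := pow_mem hoO _
  have hc : (d⁻¹ * g) * t = t * (d⁻¹ * g) := by
    have h5 : g * t * g⁻¹ = o * t := by rw [ho]; group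
    calc d⁻¹ * g * t = d⁻¹ * (g * t * g⁻¹) * g := by group
      _ = d⁻¹ * (d * d * t) * g := by rw [h5, hdd]
      _ = d * t * g := by group
      _ = (t * d * t⁻¹)⁻¹ * t * g := by rw [htd, inv_inv]
      _ = t * (d⁻¹ * g) := by group
  obtain ⟨c, hc', hce⟩ := (K.mem_iff _).1 hc
  have h50 : (50 : ℕ) ∈ invols := by decide +kernel
  set y := conj c 50 with hy
  have hy3 : kind y = 3 := by rw [hy, kind_conj hc' h50]; decide +kernel
  have hyi : y ∈ invols := (mem_invols (conj_lt _ _)).2 (by rw [← hy]; omega)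
  have hx : K.f 1 = d * K.f y * d⁻¹ := by
    rw [hy, K.f_conj hc' (by norm_num), hce, ← hg]
    group
  have hmem : K.f (mul 1 y) ∈ pPrimeCore 2 G := by
    rw [K.hmul (by norm_num) (conj_lt _ _), ← hy, hx]
    have hyy : K.f y * K.f y = 1 := by
      rw [← pow_two, ← (K.orderOf_f (lt_of_invols hyi)).2 hyi, pow_orderOf_eq_one]
    have hn : (pPrimeCore 2 G).Normal := by infer_instance
    have h6 : K.f y * d⁻¹ * (K.f y)⁻¹ ∈ pPrimeCore 2 G := hn.conj_mem _ (inv_mem hdO) _
    rw [inv_eq_of_mul_eq_one_right hyy] at h6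
    simpa [mul_assoc] using mul_mem hdO h6
  have hodd' : Odd (orderOf (K.f (mul 1 y))) :=
    (PCore.odd_card_oddCore (G := G)).of_dvd_nat (Subgroup.orderOf_dvd_natCard _ hmem)
  have h9 : K.f (mul 1 y) ^ 9 = 1 := by
    refine orderOf_dvd_iff_pow_eq_one.1 ?_
    have h12 : orderOf (K.f (mul 1 y)) ∣ 2 ^ 2 * 3 :=
      orderOf_dvd_of_pow_eq_one (K.pow_twelve (mul_lt _ _))
    exact ((Nat.Coprime.pow_right 2 hodd'.coprime_two_right).dvd_of_dvd_mul_left h12).trans
      (by norm_num)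
  have h := chk_one_three
  simp only [List.all_eq_true, Bool.or_eq_true, bne_iff_ne] at h
  exact (h y hyi).resolve_left (by simp [hy3])
    (K.f_eq_one (pw_lt _ _) (by rw [K.f_pw (mul_lt _ _), h9]))

/-- Type of the pair `u`, `v`: the kind of the image of `v` when `u` is moved to `t`. -/
def Ty (u v : G) (k : ℕ) : Prop :=
  ∃ g, ∃ y ∈ invols, g * u * g⁻¹ = t ∧ g * v * g⁻¹ = K.f y ∧ kind y = k

theorem Ty.unique {u v : G} {k l : ℕ} (h : K.Ty u v k) (h' : K.Ty u v l) : k = l := by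
  obtain ⟨g, y, hy, hgu, hgv, rfl⟩ := h
  obtain ⟨g', y', hy', hgu', hgv', rfl⟩ := h'
  refine (K.kind_eq_of_conj (c := g' * g⁻¹) hy (lt_of_invols hy') ?_ ?_).symm
  · calc g' * g⁻¹ * t = g' * g⁻¹ * (g * u * g⁻¹) := by rw [hgu]
      _ = g' * u * g'⁻¹ * (g' * g⁻¹) := by group
      _ = t * (g' * g⁻¹) := by rw [hgu']
  · rw [← hgv, ← hgv']
    group

theorem Ty.conj {u v : G} {k : ℕ} (h : K.Ty u v k) (c : G) :
    K.Ty (c * u * c⁻¹) (c * v * c⁻¹) k := by
  obtain ⟨g, y, hy, hgu, hgv, hk⟩ := h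
  refine ⟨g * c⁻¹, y, hy, ?_, ?_, hk⟩
  · rw [← hgu]; group
  · rw [← hgv]; group

/-- Moving `f r` to `t` moves `t` to an involution of the first or second kind. -/
theorem image_t [Finite G] {r : ℕ} (hr : r = 1 ∨ r = 25) {g : G} (hgN : g ∈ K.N)
    (hg : g * K.f r * g⁻¹ = t) :
    ∃ y ∈ e0List, y ∈ invols ∧ g * t * g⁻¹ = K.f y ∧ (kind y = 1 ∨ kind y = 2) := by
  obtain ⟨y, hy, he⟩ := K.mem_N.1 hgN t K.t_mem_E
  have hyi : y ∈ invols := (K.orderOf_f (lt_of_e0 hy)).1
    (by rw [he, ← MulAut.conj_apply, (MulAut.conj g).orderOf_eq, K.t_order])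
  have hy' := lt_of_invols hyi
  refine ⟨y, hy, hyi, he.symm, ?_⟩
  have hk := kind_le hy'
  have hk0 := (mem_invols hy').1 hyi
  have h4 : kind y ≠ 4 := by
    intro h
    rw [eq_of_kind_four hy' h, K.f_t] at he
    have h5 : t = K.f r := by
      have h6 := hg.trans he
      exact (mul_left_cancel (mul_right_cancel h6)).symm
    have := K.hinj (by norm_num) (by omega) (K.f_t.trans h5)
    omega
  have h3 : kind y ≠ 3 := by
    intro h
    have hc : (150 : ℕ) < 576 := by norm_num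
    have hcr : K.f 150 * K.f r = K.f r * K.f 150 :=
      (K.comm_iff hc (by omega)).2 (by rcases hr with rfl | rfl <;> decide +kernel)
    have hcy : (g * K.f 150 * g⁻¹) * t = t * (g * K.f 150 * g⁻¹) := by
      calc g * K.f 150 * g⁻¹ * t = g * K.f 150 * g⁻¹ * (g * K.f r * g⁻¹) :=
            congrArg (g * K.f 150 * g⁻¹ * ·) hg.symm
        _ = g * (K.f 150 * K.f r) * g⁻¹ := by group
        _ = g * (K.f r * K.f 150) * g⁻¹ := by rw [hcr]
        _ = g * K.f r * g⁻¹ * (g * K.f 150 * g⁻¹) := by group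
        _ = t * (g * K.f 150 * g⁻¹) := congrArg (· * (g * K.f 150 * g⁻¹)) hg
    obtain ⟨z, hz, hze⟩ := (K.mem_iff _).1 hcy
    have hzy : comm y z = true := (K.comm_iff hy' hz).1 (by
      rw [he, hze]
      calc g * t * g⁻¹ * (g * K.f 150 * g⁻¹) = g * (t * K.f 150) * g⁻¹ := by group
        _ = g * (K.f 150 * t) * g⁻¹ := by rw [K.f_mem hc]
        _ = g * K.f 150 * g⁻¹ * (g * t * g⁻¹) := by group)
    have h8 := chk_cent_three
    simp only [List.all_eq_true, Bool.or_eq_true, bne_iff_ne] at h8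
    have h9 := all576_spec ((h8 y hyi).resolve_left (by simp [h])) z hz
    simp only [Bool.or_eq_true, hzy, Bool.not_true, Bool.false_eq_true, false_or, beq_iff_eq] at h9
    have h10 : (g * K.f 150 * g⁻¹) ^ 8 = 1 := by rw [← hze, ← K.f_pw hz, h9, K.f_zero]
    rw [← MulAut.conj_apply, ← map_pow, MulEquiv.map_eq_one_iff, ← K.f_pw hc] at h10
    exact absurd (K.f_eq_one (pw_lt _ _) h10) (by decide +kernel)
  omega

theorem ty_mul_t {g v : G} {y : ℕ} (hy : y ∈ invols) (hg : g * v * g⁻¹ = t)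
    (hgt : g * t * g⁻¹ = K.f y) (hk : kind y = 1 ∨ kind y = 2) :
    K.Ty v (t * v) (3 - kind y) := by
  have hy' := lt_of_invols hy
  have hc := chk_kind_mul_t
  simp only [List.all_eq_true, Bool.and_eq_true, Bool.or_eq_true, bne_iff_ne, beq_iff_eq] at hc
  obtain ⟨h1, h2⟩ := hc y hy
  have hk' : kind (mul y 24) = 3 - kind y := by
    rcases hk with h | h
    · rw [h1.resolve_left (by simp [h]), h]
    · rw [h2.resolve_left (by simp [h]), h]
  refine ⟨g, mul y 24, (mem_invols (mul_lt _ _)).2 (by omega), hg, ?_, hk'⟩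
  rw [K.hmul hy' (by norm_num), K.f_t, ← hgt]
  calc g * (t * v) * g⁻¹ = g * t * g⁻¹ * (g * v * g⁻¹) := by group
    _ = g * t * g⁻¹ * t := by rw [hg]

/-- The classes `1` and `2` are not both fused to `t`. -/
theorem not_both [Finite G] (h1 : IsConj (K.f 1) t) (h2 : IsConj (K.f 25) t) : False := by
  have hx : K.f 1 ∈ K.E := ⟨1, by decide +kernel, rfl⟩
  have hy : K.f 25 ∈ K.E := ⟨25, by decide +kernel, rfl⟩
  have htx : t * K.f 1 = K.f 25 := by
    rw [show (25 : ℕ) = mul 24 1 by decide +kernel, K.hmul (by norm_num) (by norm_num), K.f_t]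
  have hty : t * K.f 25 = K.f 1 := by
    rw [← htx, ← mul_assoc, K.E_sq K.t_mem_E, one_mul]
  obtain ⟨g, hgN, hg⟩ := K.exists_norm hx h1
  obtain ⟨y, hy0, hyi, hgy, hky⟩ := K.image_t (Or.inl rfl) hgN hg
  have hy' := lt_of_invols hyi
  obtain ⟨g', hgN', hg'⟩ := K.exists_norm hy h2
  obtain ⟨z, hz0, hzi, hgz, hkz⟩ := K.image_t (Or.inr rfl) hgN' hg'
  have hzt : K.Ty (K.f 25) t (kind z) := ⟨g', z, hzi, hg', hgz, rfl⟩
  have hzx : K.Ty (K.f 25) (K.f 1) (3 - kind z) := hty ▸ K.ty_mul_t hzi hg' hgz hkz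
  rcases hky with hk | hk
  · -- `t ↦ x ↦ t`, so `t` and `x` have the same type relative to `t x`
    have hfour := chk_e0_one
    simp only [List.all_eq_true, Bool.or_eq_true, bne_iff_ne, List.contains_iff_mem] at hfour
    have hym := (hfour y hy0).resolve_left (by simp [hk])
    have hw := chk_trWit
    simp only [List.all_eq_true, Bool.and_eq_true, beq_iff_eq, decide_eq_true_eq] at hw
    obtain ⟨⟨hw1, -⟩, hwlt⟩ := hw y hym
    set g₁ := K.f (trWit y) * g with hg₁
    have e1 : g₁ * K.f 1 * g₁⁻¹ = t := by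
      calc g₁ * K.f 1 * g₁⁻¹ = K.f (trWit y) * (g * K.f 1 * g⁻¹) * (K.f (trWit y))⁻¹ := by
            rw [hg₁]; group
        _ = K.f (trWit y) * t * (K.f (trWit y))⁻¹ := by rw [hg]
        _ = t := by rw [K.f_mem hwlt, mul_inv_cancel_right]
    have e2 : g₁ * t * g₁⁻¹ = K.f 1 := by
      calc g₁ * t * g₁⁻¹ = K.f (trWit y) * (g * t * g⁻¹) * (K.f (trWit y))⁻¹ := by
            rw [hg₁]; group
        _ = K.f 1 := by rw [hgy, ← K.f_conj hwlt hy', hw1]
    have e3 : g₁ * K.f 25 * g₁⁻¹ = K.f 25 := by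
      rw [← htx]
      calc g₁ * (t * K.f 1) * g₁⁻¹ = g₁ * t * g₁⁻¹ * (g₁ * K.f 1 * g₁⁻¹) := by group
        _ = t * K.f 1 := by rw [e1, e2, K.E_comm hx K.t_mem_E]
    have := hzt.conj K g₁
    rw [e2, e3] at this
    have := Ty.unique K this hzx
    omega
  · -- three-cycle `x ↦ t ↦ tx ↦ x`
    have hc := chk_kind_mul_t
    simp only [List.all_eq_true, Bool.and_eq_true, Bool.or_eq_true, bne_iff_ne, beq_iff_eq] at hc
    have hk1 : kind (mul y 24) = 1 := (hc y hyi).2.resolve_left (by simp [hk])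
    have hm0 : mul y 24 ∈ e0List := by
      refine (K.f_mem_E (mul_lt _ _)).1 ?_
      rw [K.hmul hy' (by norm_num), K.f_t]
      exact mul_mem ⟨y, hy0, rfl⟩ K.t_mem_E
    have hfour := chk_e0_one
    simp only [List.all_eq_true, Bool.or_eq_true, bne_iff_ne, List.contains_iff_mem] at hfour
    have hym := (hfour _ hm0).resolve_left (by simp [hk1])
    have hw := chk_trWit
    simp only [List.all_eq_true, Bool.and_eq_true, beq_iff_eq, decide_eq_true_eq] at hw
    obtain ⟨⟨hw1, hwn⟩, hwlt⟩ := hw _ hym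
    set c := trWit (mul y 24)
    set g₁ := K.f c * g with hg₁
    have hg₁N : g₁ ∈ K.N := mul_mem (K.f_mem_N hwlt hwn) hgN
    have hct : K.f c * t * (K.f c)⁻¹ = t := by rw [K.f_mem hwlt, mul_inv_cancel_right]
    have e1 : g₁ * K.f 1 * g₁⁻¹ = t := by
      calc g₁ * K.f 1 * g₁⁻¹ = K.f c * (g * K.f 1 * g⁻¹) * (K.f c)⁻¹ := by rw [hg₁]; group
        _ = K.f c * t * (K.f c)⁻¹ := by rw [hg]
        _ = t := hct
    have e2 : g₁ * t * g₁⁻¹ = K.f 25 := by
      have h : K.f c * (K.f y * t) * (K.f c)⁻¹ = K.f 1 := by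
        rw [← hw1, K.f_conj hwlt (mul_lt _ _), K.hmul hy' (by norm_num), K.f_t]
      have h2 : K.f c * K.f y * (K.f c)⁻¹ * t = K.f 1 := by
        calc K.f c * K.f y * (K.f c)⁻¹ * t
            = K.f c * K.f y * (K.f c)⁻¹ * (K.f c * t * (K.f c)⁻¹) := by rw [hct]
          _ = K.f 1 := by rw [← h]; group
      calc g₁ * t * g₁⁻¹ = K.f c * (g * t * g⁻¹) * (K.f c)⁻¹ := by rw [hg₁]; group
        _ = K.f c * K.f y * (K.f c)⁻¹ * (t * t) := by rw [hgy, K.E_sq K.t_mem_E, mul_one]
        _ = K.f 1 * t := by rw [← mul_assoc, h2]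
        _ = K.f 25 := by rw [K.E_comm hx K.t_mem_E, htx]
    have e3 : g₁ * K.f 25 * g₁⁻¹ = K.f 1 := by
      rw [← htx]
      calc g₁ * (t * K.f 1) * g₁⁻¹ = g₁ * t * g₁⁻¹ * (g₁ * K.f 1 * g₁⁻¹) := by group
        _ = K.f 1 := by rw [e1, e2, K.E_comm hy K.t_mem_E, hty]
    have hxt : K.Ty (K.f 1) t 2 := ⟨g, y, hyi, hg, hgy, hk⟩
    have hy2 : K.Ty (K.f 25) (K.f 1) 2 := by
      have h := Ty.conj K hxt g₁⁻¹
      rw [inv_inv, show g₁⁻¹ * K.f 1 * g₁ = K.f 25 by rw [← e3]; group,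
        show g₁⁻¹ * t * g₁ = K.f 1 from
          (congrArg (fun z => g₁⁻¹ * z * g₁) e1.symm).trans (by group)] at h
      exact h
    have hb : kind z = 1 := by
      have := Ty.unique K hy2 hzx
      omega
    -- codes of the images
    obtain ⟨a, ha, haf⟩ := K.mem_N.1 hg₁N (K.f 75) ⟨75, by decide +kernel, rfl⟩
    obtain ⟨b, hb0, hbf⟩ := K.mem_N.1 hg₁N (K.f 375) ⟨375, by decide +kernel, rfl⟩
    have ha' := lt_of_e0 ha
    have hb' := lt_of_e0 hb0
    let π : ℕ → G := fun v => g₁ * K.f v * g₁⁻¹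
    have π_mul : ∀ u v, u < 576 → v < 576 → π (mul u v) = π u * π v := fun u v hu hv => by
      simp only [π, K.hmul hu hv]; group
    have π_inj : ∀ u v, u < 576 → v < 576 → π u = π v → u = v := fun u v hu hv h =>
      K.hinj hu hv (mul_left_cancel (mul_right_cancel h))
    have pa : π 75 = K.f a := haf.symm
    have pb : π 375 = K.f b := hbf.symm
    have p1 : π 1 = K.f 24 := by rw [K.f_t]; exact e1
    have p24 : π 24 = K.f 25 := by simp only [π, K.f_t]; exact e2
    have p25 : π 25 = K.f 1 := e3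
    have ptimes : ∀ u v a' b', u < 576 → v < 576 → a' < 576 → b' < 576 → π u = K.f a' →
        π v = K.f b' → π (mul u v) = K.f (mul a' b') := fun u v a' b' hu hv ha1 hb1 h1 h2 => by
      rw [π_mul u v hu hv, h1, h2, K.hmul ha1 hb1]
    have p575 : π 575 = K.f (mul 1 (mul a b)) := by
      rw [show (575 : ℕ) = mul 25 (mul 75 375) by decide +kernel]
      exact ptimes _ _ _ _ (by norm_num) (mul_lt _ _) (by norm_num) (mul_lt _ _) p25
        (ptimes _ _ _ _ (by norm_num) (by norm_num) ha' hb' pa pb)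
    -- invariance under the element of order three
    have hd : ∀ u u' v v', u ∈ invols → u' < 576 → v < 576 → v' < 576 → conj 150 u = u' →
        π u = K.f v → π u' = K.f v' → kind v' = kind v := by
      intro u u' v v' hu hu' hv hv' hcu h1 h2
      have hvi : v ∈ invols := (K.orderOf_f hv).1 (by
        rw [← h1]
        simp only [π]
        rw [← MulAut.conj_apply, (MulAut.conj g₁).orderOf_eq]
        exact (K.orderOf_f (lt_of_invols hu)).2 hu)
      refine K.kind_eq_of_conj (c := g₁ * K.f 150 * g₁⁻¹) hvi hv' ?_ ?_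
      · have h150 : K.f 150 * K.f 1 = K.f 1 * K.f 150 :=
          (K.comm_iff (by norm_num) (by norm_num)).2 (by decide +kernel)
        calc g₁ * K.f 150 * g₁⁻¹ * t = g₁ * K.f 150 * g₁⁻¹ * (g₁ * K.f 1 * g₁⁻¹) :=
              congrArg (g₁ * K.f 150 * g₁⁻¹ * ·) e1.symm
          _ = g₁ * (K.f 150 * K.f 1) * g₁⁻¹ := by group
          _ = g₁ * K.f 1 * g₁⁻¹ * (g₁ * K.f 150 * g₁⁻¹) := by rw [h150]; group
          _ = t * (g₁ * K.f 150 * g₁⁻¹) := congrArg (· * (g₁ * K.f 150 * g₁⁻¹)) e1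
      · rw [← h1, ← h2, ← hcu]
        simp only [π]
        rw [K.f_conj (by norm_num) (lt_of_invols hu)]
        group
    have hcases : ∀ m m', m < 576 → m' < 576 → π m = K.f m' →
        kind (mul m' a) = kind (mul m' b) ∧ kind (mul m' a) = kind (mul m' (mul 1 (mul a b))) ∨
          ¬ (mul m 75 ∈ invols ∧ mul m 375 ∈ invols ∧ conj 150 (mul m 75) = mul m 375 ∧
            conj 150 (mul m 375) = mul m 575) := by
      intro m m' hm hm' hpm
      by_cases h : mul m 75 ∈ invols ∧ mul m 375 ∈ invols ∧ conj 150 (mul m 75) = mul m 375 ∧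
            conj 150 (mul m 375) = mul m 575
      · left
        obtain ⟨i1, i2, c1, c2⟩ := h
        have h1 := ptimes _ _ _ _ hm (by norm_num) hm' ha' hpm pa
        have h2 := ptimes _ _ _ _ hm (by norm_num) hm' hb' hpm pb
        have h3 := ptimes _ _ _ _ hm (by norm_num) hm' (mul_lt _ _) hpm p575
        have k1 := hd _ _ _ _ i1 (mul_lt _ _) (mul_lt _ _) (mul_lt _ _) c1 h1 h2
        have k2 := hd _ _ _ _ i2 (mul_lt _ _) (mul_lt _ _) (mul_lt _ _) c2 h2 h3
        exact ⟨k1.symm, k1.symm.trans k2.symm⟩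
      · exact Or.inr h
    have f1 := (hcases 24 25 (by norm_num) (by norm_num) p24).resolve_right
      (not_not.2 (by decide +kernel))
    have f2 := (hcases 25 1 (by norm_num) (by norm_num) p25).resolve_right
      (not_not.2 (by decide +kernel))
    have f3 := (hcases 1 24 (by norm_num) (by norm_num) p1).resolve_right
      (not_not.2 (by decide +kernel))
    have k0a : kind b = kind a :=
      hd 75 375 a b (by decide +kernel) (by norm_num) ha' hb' (by decide +kernel) pa pb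
    have k0b : kind (mul 1 (mul a b)) = kind b :=
      hd 375 575 b _ (by decide +kernel) (by norm_num) hb' (mul_lt _ _) (by decide +kernel) pb p575
    have p0 : π 0 = K.f 0 := by simp [π, K.f_zero]
    have hnot : ∀ u v, u < 576 → v < 576 → π u = K.f v → u ∉ ([0, 1, 24, 25] : List ℕ) →
        v ∉ ([0, 1, 24, 25] : List ℕ) := by
      intro u v hu hv h hnu hnv
      fin_cases hnv
      · exact hnu (by simp [π_inj _ 0 hu (by norm_num) (h.trans p0.symm)])
      · exact hnu (by simp [π_inj _ 25 hu (by norm_num) (h.trans p25.symm)])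
      · exact hnu (by simp [π_inj _ 1 hu (by norm_num) (h.trans p1.symm)])
      · exact hnu (by simp [π_inj _ 24 hu (by norm_num) (h.trans p24.symm)])
    have na := hnot 75 a (by norm_num) ha' pa (by decide +kernel)
    have nb := hnot 375 b (by norm_num) hb' pb (by decide +kernel)
    have nab := hnot (mul 75 375) (mul a b) (mul_lt _ _) (mul_lt _ _)
      (ptimes _ _ _ _ (by norm_num) (by norm_num) ha' hb' pa pb) (by decide +kernel)
    have hka : kind a = 2 :=
      bad_kind a ha b hb0 k0a.symm (k0b.trans k0a).symm f1.1 f1.2 f3.1 f3.2 f2.1 f2.2 na nb nab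
    have hai : a ∈ invols := (mem_invols ha').2 (by omega)
    -- relative to `x`, the involution `f 75` is of the second type, and conversely
    have h75 : K.Ty (K.f 1) (K.f 75) 2 := ⟨g₁, a, hai, e1, haf.symm, hka⟩
    have h2 := Ty.conj K h75 (K.f 2)
    rw [← K.f_conj (by norm_num) (by norm_num), ← K.f_conj (by norm_num) (by norm_num),
      chk_wit_small.2.2.2.2.2.1, chk_wit_small.2.2.2.2.2.2.1] at h2
    have h3 := Ty.conj K h2 g₁
    rw [← haf, e1] at h3
    have hwa := K.wit_eq hai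
    rw [hka, show rep 2 = 25 by decide +kernel] at hwa
    have h4 := Ty.conj K h3 (K.f (wit a))⁻¹
    rw [inv_inv, show (K.f (wit a))⁻¹ * K.f a * K.f (wit a) = K.f 25 by rw [← hwa]; group,
      show (K.f (wit a))⁻¹ * t * K.f (wit a) = t by
        rw [mul_assoc, ← K.f_mem (wit_lt a), inv_mul_cancel_left]] at h4
    have := Ty.unique K h4 hzt
    omega

end Cent

end Cfsg.Agent.PSpCent
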