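import Cfsg.Agent.Lib.PSpCent.Graph

/-!
# The embedding into the automorphism group of the graph
-/

set_option autoImplicit false
set_option linter.style.haveILetI false

namespace Cfsg.Agent.PSpCent

open Cfsg

namespace Cent

variable {G : Type*} [Group G] {t : G} (K : Cent G t) [Finite G] (hK : Good K)

include hK

theorem adj_iff_of_cj {P Q : Subgroup G} (g : G) :
    Adj (t := t) (cj g P) (cj g Q) ↔ Adj (t := t) P Q := by
  refine ⟨fun h => ?_, fun h => adj_map g h⟩
  have := adj_map g⁻¹ h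
  rwa [map_comp, map_comp, inv_mul_cancel, show P.map (MulAut.conj (1 : G)).toMonoidHom = P from
    cj_one P, show Q.map (MulAut.conj (1 : G)).toMonoidHom = Q from cj_one Q] at this

theorem exists_embedding :
    ∃ ρ : G →* Equiv.Perm (Fin 27), Function.Injective ρ ∧ ρ.range ≤ modelAut := by
  classical
  obtain ⟨F⟩ := K.exists_frame hK
  let Pt := {P : Subgroup G // K.IsPt P}
  haveI : Fintype Pt := Fintype.ofFinite Pt
  have hb : Function.Bijective fun k => (⟨vert F k, vert_isPt F k⟩ : Pt) := by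
    refine (Fintype.bijective_iff_surjective_and_card _).2 ⟨fun P => ?_, ?_⟩
    · obtain ⟨k, hk⟩ := vert_surj hK F P.2
      exact ⟨k, Subtype.ext hk⟩
    · rw [← Nat.card_eq_fintype_card (α := Pt), K.card_points hK, Fintype.card_fin]
  let ι : Fin 27 ≃ Pt := Equiv.ofBijective _ hb
  let act : G →* Equiv.Perm Pt :=
    { toFun := fun g =>
        { toFun := fun P => ⟨cj g P.1, P.2.map K g⟩
          invFun := fun P => ⟨cj g⁻¹ P.1, P.2.map K g⁻¹⟩
          left_inv := fun P => Subtype.ext (by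
            show cj g⁻¹ (cj g P.1) = P.1
            rw [cj_cj, inv_mul_cancel, cj_one])
          right_inv := fun P => Subtype.ext (by
            show cj g (cj g⁻¹ P.1) = P.1
            rw [cj_cj, mul_inv_cancel, cj_one]) }
      map_one' := Equiv.ext fun P => Subtype.ext (cj_one P.1)
      map_mul' := fun g h => Equiv.ext fun P => Subtype.ext (cj_cj g h P.1).symm }
  let ρ : G →* Equiv.Perm (Fin 27) := (ι.symm.permCongrHom.toMonoidHom).comp act
  have hρ : ∀ g k, vert F (ρ g k) = cj g (vert F k) := fun g k =>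
    congrArg Subtype.val (ι.apply_symm_apply (act g (ι k)))
  refine ⟨ρ, ?_, ?_⟩
  · rw [injective_iff_map_eq_one]
    intro g hg
    have hfix : ∀ P, K.IsPt P → cj g P = P := by
      intro P hP
      obtain ⟨k, rfl⟩ := vert_surj hK F hP
      rw [← hρ, hg]
      rfl
    have hA : ∀ i, g * K.A i * g⁻¹ = K.A i := by
      intro i
      have h1 := mem_cj (g := g) (K.A_mem hK i).1
      rw [hfix _ K.isPt_E] at h1
      have h2 := mem_cj (g := g) (F.nb0 i).2.1
      rw [hfix _ (F.nb0 i).1] at h2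
      exact K.share_unique hK K.isPt_E (F.nb0 i).1 (F.nb0 i).2.2.symm
        ((K.A_mem hK i).2.trans (isConj_iff.2 ⟨g, rfl⟩)) (K.A_mem hK i).2 h1 (K.A_mem hK i).1 h2
        (F.nb0 i).2.1
    have hW : ∀ v, v < 16 → Commute g (K.W v) := by
      intro v hv
      obtain ⟨he, d1, d2, d3, d4⟩ := bit_decomp v hv
      have hz : ∀ {u : ℕ} {j : Fin 5}, (u = 0 ∨ u = bit j) → Commute g (K.W u) ∧ u < 16 :=
        fun {u j} h => h.elim
          (fun e => e ▸ ⟨by rw [K.W_zero]; exact Commute.one_right g, by norm_num⟩)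
          fun e => e ▸ ⟨by rw [K.W_bit]; exact mul_inv_eq_iff_eq_mul.1 (hA j), (chk_aC j).2.1⟩
      obtain ⟨c1, l1⟩ := hz d1
      obtain ⟨c2, l2⟩ := hz d2
      obtain ⟨c3, l3⟩ := hz d3
      obtain ⟨c4, l4⟩ := hz d4
      rw [he, ← K.W_mul (Nat.xor_lt_two_pow (n := 4) (Nat.xor_lt_two_pow (n := 4) l1 l2) l3) l4,
        ← K.W_mul (Nat.xor_lt_two_pow (n := 4) l1 l2) l3, ← K.W_mul l1 l2]
      exact ((c1.mul_right c2).mul_right c3).mul_right c4
    have hgE : g ∈ K.E := K.cent_E fun v hv => by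
      obtain ⟨u, hu, rfl⟩ := K.W_surj hv
      exact (hW u hu).eq
    exact K.E_free hK F.q_far.1 F.q_far.2.1 F.q_far.2.2 hgE (hfix _ F.q_far.1)
  · rintro _ ⟨g, rfl⟩ a b
    rw [Bool.eq_iff_iff, ← adj_vert hK F, ← adj_vert hK F, hρ, hρ, adj_iff_of_cj K hK]

end Cent

end Cfsg.Agent.PSpCent
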