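import Cfsg.Agent.Lib.PSpCent.Table

/-!
# Facts about the order 576 model, checked by the kernel
-/

set_option autoImplicit false
set_option maxRecDepth 100000

namespace Cfsg.Agent.PSpCent

theorem all576_spec {p : Nat → Bool} (h : all576 p = true) (x : Nat) (hx : x < 576) : p x = true :=
  List.all_eq_true.mp h x (List.mem_range.mpr hx)

theorem chk_inv : all576 (fun x => mul x (inv x) == 0) = true := by decide +kernel

theorem chk_pw : all576 (fun x => pw x 12 == 0) = true := by decide +kernel

theorem chk_kind : all576 (fun x =>
    ((kind x != 0) == (x != 0 && mul x x == 0)) && (decide (kind x ≤ 4))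
      && (kind x != 4 || x == 24) && ((kind x != 0) == invols.contains x)) = true := by
  decide +kernel

theorem chk_wit : all576 (fun x => kind x == 0 || conj (wit x) (rep (kind x)) == x) = true := by
  decide +kernel

theorem chk_kindConj :
    all576 (fun c => invols.all fun x => kind (conj c x) == kind x) = true := by decide +kernel

theorem chk_centre :
    all576 (fun x => x == 0 || x == 24 || invols.any fun y => !comm x y) = true := by decide +kernel

theorem chk_S : (sList.all fun a => sList.all fun b =>
    inS (mul a b) && (inQ (mul a b) == (inQ a == inQ b))) = true := by decide +kernel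

theorem chk_S_mem : all576 (fun x => inS x == sList.contains x) = true := by decide +kernel

theorem chk_S_inv : (sList.all fun a => inS (inv a)) = true := by decide +kernel

theorem chk_S_centre :
    (sList.all fun x => x == 0 || x == 24 || sList.any fun y => !comm x y) = true := by
  decide +kernel

theorem chk_Q_invols :
    (invols.all fun x => !inQ x || kind x == 3 || kind x == 4) = true := by decide +kernel

theorem chk_e0 : (e0List.all fun a => e0List.all fun b =>
    e0List.contains (mul a b) && comm a b && mul a a == 0) = true := by decide +kernel

theorem chk_eWit : (([0, 1, 2] : List Nat).all fun j =>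
    all576 (fun x => inE j x == (e0List.map (conj (eWit j))).contains x)) = true := by
  decide +kernel

theorem chk_inE0 : all576 (fun x => inE 0 x == e0List.contains x) = true := by decide +kernel

/-- An involution of type one or two and one commuting with it lie in a common `E`. -/
theorem chk_pair : (invols.all fun x => (kind x == 3 || kind x == 4) || invols.all fun y =>
    !comm x y || ([0, 1, 2] : List Nat).any fun j => inE j x && inE j y) = true := by decide +kernel

theorem chk_uniq : (invols.all fun x => (kind x == 3 || kind x == 4) ||
    (([0, 1, 2] : List Nat).filter fun j => inE j x).length == 1) = true := by decide +kernel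

theorem chk_few : (invols.all fun e => kind e != 3 ||
    decide ((invols.filter fun y => kind y == 3 && comm e y).length ≤ 12)) = true := by decide +kernel

theorem chk_cent_e0 :
    all576 (fun x => e0List.contains x || e0List.any fun v => !comm x v) = true := by decide +kernel

/-- `x` normalises `E`. -/
def nrm (x : Nat) : Bool := e0List.all fun v => e0List.contains (conj x v)

theorem chk_nrm_card : ((List.range 576).filter nrm).length = 192 := by decide +kernel

theorem chk_nrm_t : all576 (fun x => !nrm x || !(kind x == 1 || kind x == 4) || e0List.contains x) = true := by
  decide +kernel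

theorem chk_comm_four : (([1, 75, 375, 575] : List Nat).all fun a => invols.all fun y =>
    !(comm a y && (kind y == 1 || kind y == 4)) || e0List.contains y) = true := by decide +kernel

theorem chk_four_mul : (([1, 75, 375, 575] : List Nat).all fun a =>
    ([1, 75, 375, 575] : List Nat).all fun b => a == b || kind (mul a b) == 3) = true := by decide +kernel

theorem chk_cent_three :
    (invols.all fun y => kind y != 3 || all576 fun z => !comm y z || pw z 8 == 0) = true := by
  decide +kernel

theorem chk_one_three : (invols.all fun y => kind y != 3 || pw (mul 1 y) 9 != 0) = true := by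
  decide +kernel

theorem chk_cent_e : ((List.range 576).filter fun x => comm x 25).length = 48 := by decide +kernel

theorem chk_case_one : (invols.all fun y =>
    !((kind y == 1 || kind y == 4) && comm y 25 && (kind (mul y 25) == 1 || kind (mul y 25) == 4))
      || y == 24 || y == 1) = true := by decide +kernel

theorem chk_count_t : ((tList.flatMap fun p => evList.map fun q => (p, q)).filter fun pq =>
    (List.range 12).any fun k => pw (mul pq.1 pq.2) k == 24).length = 108 := by decide +kernel

theorem chk_swap : (([1, 75, 375, 575] : List Nat).all fun a =>
    ([1, 75, 375, 575] : List Nat).all fun b => a == b ||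
      ((invols.filter fun q => conj q a == b).length == 4 &&
        invols.all fun q => !(conj q a == b) || ([1, 75, 375, 575] : List Nat).all fun c =>
          c == a || c == b || conj q c != c)) = true := by decide +kernel

theorem chk_tev : all576 (fun x => (tList.contains x == (kind x == 1 || kind x == 4))
    && (evList.contains x == (kind x == 2 || kind x == 3))) = true := by decide +kernel

/-- The exclusion of two classes fused to the central involution. -/
theorem chk_bad : (e0List.all fun a => e0List.all fun b =>
    !((kind a == kind b) && (kind a == kind (mul 1 (mul a b)))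
      && (kind (mul 25 a) == kind (mul 25 b))
      && (kind (mul 25 a) == kind (mul 25 (mul 1 (mul a b))))
      && (kind (mul 24 a) == kind (mul 24 b))
      && (kind (mul 24 a) == kind (mul 24 (mul 1 (mul a b))))
      && (kind (mul 1 a) == kind (mul 1 b))
      && (kind (mul 1 a) == kind (mul a b))
      && !(([0, 1, 24, 25] : List Nat).contains a)
      && !(([0, 1, 24, 25] : List Nat).contains b)
      && !(([0, 1, 24, 25] : List Nat).contains (mul a b)))
    || kind a == 2) = true := by decide +kernel

/-- The flip `x ↦ x·t^(x mod 2)`. -/
def tw (x : Nat) : Nat := if x % 2 = 0 then x else mul x 24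

theorem chk_tw : all576 (fun x => tw (tw x) == x && (mul x 24 % 2 == x % 2)) = true := by
  decide +kernel

theorem chk_tw_kind : kind (tw 1) = 2 ∧ kind (tw 25) = 1 ∧ kind (tw 50) = 3 ∧ tw 24 = 24 := by
  decide +kernel

theorem chk_wit_small : conj 150 1 = 1 ∧ conj 150 75 = 375 ∧ conj 150 375 = 575 ∧ conj 150 24 = 24
    ∧ conj 150 25 = 25 ∧ conj 2 1 = 75 ∧ conj 2 75 = 1
    ∧ conj 0 1 = 1 ∧ conj 2 75 = 1 ∧ conj 14 375 = 1 ∧ conj 22 575 = 1
    ∧ nrm 0 = true ∧ nrm 2 = true ∧ nrm 14 = true ∧ nrm 22 = true ∧ nrm 150 = true := by
  decide +kernel

end Cfsg.Agent.PSpCent
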