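import Cfsg.Agent.Lib.PSpCent.Cent
import Cfsg.Agent.Lib.Transfer.Alperin
import Cfsg.Agent.Lib.Transfer.Thompson
import Cfsg.Agent.Lib.ZStar.Main

/-!
# The classes of involutions
-/

set_option autoImplicit false
set_option linter.style.haveILetI false

namespace Cfsg.Agent.PSpCent

open Cfsg

namespace Cent

variable {G : Type*} [Group G] {t : G} (K : Cent G t)

/-- The Sylow 2-subgroup of the centraliser. -/
def S : Subgroup G where
  carrier := {g | ∃ x ∈ sList, K.f x = g}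
  one_mem' := ⟨0, by decide +kernel, K.f_zero⟩
  mul_mem' := by
    rintro _ _ ⟨a, ha, rfl⟩ ⟨b, hb, rfl⟩
    have h := chk_S
    simp only [List.all_eq_true, Bool.and_eq_true] at h
    refine ⟨mul a b, ?_, K.hmul (lt_of_s ha) (lt_of_s hb)⟩
    have h2 := all576_spec chk_S_mem _ (mul_lt a b)
    rw [beq_iff_eq, (h a ha b hb).1] at h2
    simpa using h2.symm
  inv_mem' := by
    rintro _ ⟨a, ha, rfl⟩
    have h := chk_S_inv
    simp only [List.all_eq_true] at h
    refine ⟨inv a, ?_, K.f_inv (lt_of_s ha)⟩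
    have h2 := all576_spec chk_S_mem _ (inv_lt a)
    rw [beq_iff_eq, h a ha] at h2
    simpa using h2.symm

theorem card_S : Nat.card K.S = 64 := by
  classical
  have hset : (K.S : Set G) = ↑(sList.toFinset.image K.f) := by
    ext g
    simp only [Finset.coe_image, List.coe_toFinset, Set.mem_image, Set.mem_ofPred_eq, SetLike.mem_coe]
    rfl
  calc Nat.card K.S = (K.S : Set G).ncard := Nat.card_coe_set_eq _
    _ = (sList.toFinset.image K.f).card := by rw [hset, Set.ncard_coe_finset]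
    _ = sList.toFinset.card := Finset.card_image_of_injOn (fun a ha b hb h => by
        simp only [Finset.mem_coe, List.mem_toFinset] at ha hb
        exact K.hinj (lt_of_s ha) (lt_of_s hb) h)
    _ = 64 := by decide +kernel

include K in
theorem card_cent : Nat.card (Subgroup.centralizer ({t} : Set G)) = 576 := by
  classical
  have hset : (Subgroup.centralizer ({t} : Set G) : Set G) = ↑((Finset.range 576).image K.f) := by
    ext g
    simp only [Finset.coe_image, Finset.coe_range, Set.mem_image, Set.mem_Iio, SetLike.mem_coe,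
      Subgroup.mem_centralizer_singleton_iff]
    rw [K.mem_iff]
  calc Nat.card (Subgroup.centralizer ({t} : Set G))
      = (Subgroup.centralizer ({t} : Set G) : Set G).ncard := Nat.card_coe_set_eq _
    _ = ((Finset.range 576).image K.f).card := by rw [hset, Set.ncard_coe_finset]
    _ = 576 := by
      rw [Finset.card_image_of_injOn (fun a ha b hb h => by
        simp only [Finset.mem_coe, Finset.mem_range] at ha hb
        exact K.hinj ha hb h), Finset.card_range]

theorem mem_S_iff {x : ℕ} (hx : x < 576) : K.f x ∈ K.S ↔ x ∈ sList :=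
  ⟨fun ⟨y, hy, he⟩ => K.hinj (lt_of_s hy) hx he ▸ hy, fun h => ⟨x, h, rfl⟩⟩

/-- The centre of `S`. -/
theorem S_centre {z : G} (hz : z ∈ K.S) (hc : ∀ s ∈ K.S, s * z = z * s) : z = 1 ∨ z = t := by
  obtain ⟨x, hx, rfl⟩ := hz
  have h := chk_S_centre
  simp only [List.all_eq_true, Bool.or_eq_true, beq_iff_eq, List.any_eq_true] at h
  rcases h x hx with (rfl | rfl) | ⟨y, hy, hxy⟩
  · exact Or.inl K.f_zero
  · exact Or.inr K.f_t
  · rw [(K.comm_iff (lt_of_s hx) (lt_of_s hy)).1 (hc _ ⟨y, hy, rfl⟩).symm] at hxy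
    simp at hxy

theorem exists_sylow [Finite G] : ∃ P : Sylow 2 G, (P : Subgroup G) = K.S := by
  haveI : Fact (Nat.Prime 2) := ⟨Nat.prime_two⟩
  obtain ⟨P, hP⟩ := (IsPGroup.of_card (p := 2) (n := 6) (K.card_S.trans (by norm_num))).exists_le_sylow
  refine ⟨P, ?_⟩
  by_contra hne
  have hlt : K.S < (P : Subgroup G) := lt_of_le_of_ne hP (Ne.symm hne)
  obtain ⟨n, ⟨hnP, hnN⟩, hnS⟩ := SetLike.exists_of_lt (Transfer.lt_inf_normalizer_of_lt P.2 hlt)
  have hnt : n * t * n⁻¹ = t := by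
    have htS : t ∈ K.S := ⟨24, by decide +kernel, K.f_t⟩
    have hcen : ∀ s ∈ K.S, s * (n * t * n⁻¹) = n * t * n⁻¹ * s := by
      intro s hs
      have hs' : n⁻¹ * s * n ∈ K.S := (Subgroup.mem_normalizer_iff''.1 hnN s).1 hs
      obtain ⟨x, hx, he⟩ := hs'
      have hcomm := K.f_mem (lt_of_s hx)
      rw [he] at hcomm
      calc s * (n * t * n⁻¹) = n * ((n⁻¹ * s * n) * t) * n⁻¹ := by group
        _ = n * (t * (n⁻¹ * s * n)) * n⁻¹ := by rw [hcomm]
        _ = n * t * n⁻¹ * s := by group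
    rcases K.S_centre ((Subgroup.mem_normalizer_iff.1 hnN t).1 htS) hcen with h | h
    · exfalso
      have ht1 : t = 1 := by
        calc t = n⁻¹ * (n * t * n⁻¹) * n := by group
          _ = 1 := by rw [h]; group
      simpa [ht1] using K.t_order
    · exact h
  have hnC : n ∈ Subgroup.centralizer ({t} : Set G) :=
    Subgroup.mem_centralizer_singleton_iff.2 (mul_inv_eq_iff_eq_mul.1 hnt)
  set R := (P : Subgroup G) ⊓ Subgroup.centralizer ({t} : Set G) with hR
  obtain ⟨k, hk⟩ := IsPGroup.iff_card.1 (P.2.to_le (inf_le_left : R ≤ _))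
  have hdvd : 2 ^ k ∣ 576 := hk ▸ K.card_cent ▸ Subgroup.card_dvd_of_le inf_le_right
  have hk6 : k ≤ 6 := by
    by_contra hk6
    have := Nat.dvd_trans (pow_dvd_pow 2 (by omega : 7 ≤ k)) hdvd
    norm_num at this
  have hSR : K.S ≤ R := le_inf hP (fun g ⟨x, hx, he⟩ => by
    rw [Subgroup.mem_centralizer_singleton_iff, ← he]
    exact K.f_mem (lt_of_s hx))
  have hRS : K.S = R := Subgroup.eq_of_le_of_card_ge hSR (by
    rw [hk, K.card_S]
    exact (Nat.pow_le_pow_right (by norm_num) hk6).trans (by norm_num))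
  exact hnS (hRS ▸ ⟨hnP, hnC⟩)

/-- Every involution is conjugate into the centraliser of `t`. -/
theorem exists_conj_invol [Finite G] {w : G} (hw : orderOf w = 2) :
    ∃ x ∈ invols, IsConj (K.f x) w := by
  haveI : Fact (Nat.Prime 2) := ⟨Nat.prime_two⟩
  obtain ⟨P, hP⟩ := K.exists_sylow
  have hp : IsPGroup 2 (Subgroup.zpowers w) :=
    IsPGroup.of_card (n := 1) (by rw [Nat.card_zpowers, hw]; norm_num)
  obtain ⟨Q, hQ⟩ := hp.exists_le_sylow
  obtain ⟨g, hg⟩ := MulAction.exists_smul_eq G Q P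
  have hmem : g * w * g⁻¹ ∈ K.S := by
    rw [← hP, ← hg, Sylow.coe_subgroup_smul, Subgroup.mem_pointwise_smul_iff_inv_smul_mem]
    simpa [MulAut.smul_def, MulAut.conj_apply, mul_assoc] using
      hQ (Subgroup.mem_zpowers w)
  obtain ⟨x, hx, he⟩ := hmem
  refine ⟨x, (K.orderOf_f (lt_of_s hx)).1 ?_, ?_⟩
  · rw [he, ← MulAut.conj_apply, (MulAut.conj g).orderOf_eq, hw]
  · exact (he ▸ (isConj_iff.2 ⟨g, rfl⟩ : IsConj w (g * w * g⁻¹))).symm

/-- The elements of `S` in `Q`. -/
def Q : Subgroup G where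
  carrier := {g | ∃ x ∈ sList, inQ x = true ∧ K.f x = g}
  one_mem' := ⟨0, by decide +kernel, by decide +kernel, K.f_zero⟩
  mul_mem' := by
    rintro _ _ ⟨a, ha, ha', rfl⟩ ⟨b, hb, hb', rfl⟩
    have h := chk_S
    simp only [List.all_eq_true, Bool.and_eq_true, beq_iff_eq] at h
    obtain ⟨h1, h2⟩ := h a ha b hb
    refine ⟨mul a b, ?_, by rw [h2, ha', hb']; rfl, K.hmul (lt_of_s ha) (lt_of_s hb)⟩
    have h3 := all576_spec chk_S_mem _ (mul_lt a b)
    rw [beq_iff_eq, h1] at h3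
    simpa using h3.symm
  inv_mem' := by
    rintro _ ⟨a, ha, ha', rfl⟩
    have h := chk_S
    have hi := chk_S_inv
    simp only [List.all_eq_true, Bool.and_eq_true, beq_iff_eq] at h hi
    have h3 := all576_spec chk_S_mem _ (inv_lt a)
    rw [beq_iff_eq, hi a ha] at h3
    have hs : inv a ∈ sList := by simpa using h3.symm
    refine ⟨inv a, hs, ?_, K.f_inv (lt_of_s ha)⟩
    have h4 := (h a ha _ hs).2
    have h5 := all576_spec chk_inv a (lt_of_s ha)
    rw [beq_iff_eq] at h5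
    rw [h5, ha', show inQ 0 = true by decide +kernel] at h4
    simpa using h4.symm

theorem conj_to_Q [Finite G] (hG : ∀ H : Subgroup G, H.index ≠ 2) {x : ℕ} (hxi : x ∈ invols)
    (hxS : x ∈ sList) (hxQ : inQ x = false) :
    ∃ y ∈ invols, (kind y = 3 ∨ kind y = 4) ∧ IsConj (K.f x) (K.f y) := by
  haveI : Fact (Nat.Prime 2) := ⟨Nat.prime_two⟩
  obtain ⟨P, hP⟩ := K.exists_sylow
  have hx := lt_of_invols hxi
  have hQS : K.Q ≤ K.S := fun g ⟨y, hy, _, he⟩ => ⟨y, hy, he⟩
  have hnot : K.f x ∉ K.Q := by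
    rintro ⟨y, hy, hy', he⟩
    rw [K.hinj (lt_of_s hy) hx he, hxQ] at hy'
    simp at hy'
  have hi : K.Q.relIndex K.S = 2 := by
    rw [Subgroup.relIndex, Subgroup.index_eq_two_iff]
    refine ⟨⟨K.f x, x, hxS, rfl⟩, fun b => ?_⟩
    obtain ⟨_, y, hy, rfl⟩ := b
    have h := chk_S
    simp only [List.all_eq_true, Bool.and_eq_true, beq_iff_eq] at h
    obtain ⟨h1, h2⟩ := h y hy x hxS
    have hmq : ∀ z, z < 576 → z ∈ sList → (K.f z ∈ K.Q ↔ inQ z = true) := fun z hz hzs =>
      ⟨fun ⟨w, hw, hw', he⟩ => K.hinj (lt_of_s hw) hz he ▸ hw', fun h => ⟨z, hzs, h, rfl⟩⟩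
    have h3 := all576_spec chk_S_mem _ (mul_lt y x)
    rw [beq_iff_eq, h1] at h3
    simp only [Subgroup.mem_subgroupOf, Subgroup.coe_mul]
    rw [← K.hmul (lt_of_s hy) hx, hmq _ (mul_lt y x) (by simpa using h3.symm),
      hmq y (lt_of_s hy) hy, h2, hxQ]
    cases inQ y <;> simp
  by_contra hcon
  push Not at hcon
  obtain ⟨M, -, hM, -⟩ := Transfer.exists_index_two_of_involution P K.Q (hP ▸ hQS) (hP ▸ hi)
    (K.f x) (by rw [← (K.orderOf_f hx).2 hxi, pow_orderOf_eq_one]) (hP ▸ ⟨x, hxS, rfl⟩) hnot (by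
      rintro g ⟨y, hy, hy', he⟩
      have ho : orderOf (K.f y) = 2 := by
        rw [he, ← MulAut.conj_apply, (MulAut.conj g).orderOf_eq, (K.orderOf_f hx).2 hxi]
      have hyi := (K.orderOf_f (lt_of_s hy)).1 ho
      have hk := chk_Q_invols
      simp only [List.all_eq_true, Bool.or_eq_true, beq_iff_eq] at hk
      rcases hk y hyi with (h | h) | h
      · simp [hy'] at h
      · exact hcon y hyi (Or.inl h) (isConj_iff.2 ⟨g, he.symm⟩)
      · exact hcon y hyi (Or.inr h) (isConj_iff.2 ⟨g, he.symm⟩))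
  exact hG M hM

theorem rep_or_t [Finite G] (hG : ∀ H : Subgroup G, H.index ≠ 2) {x : ℕ}
    (hx : x = 1 ∨ x = 25) : IsConj (K.f x) t ∨ IsConj (K.f x) (K.f 50) := by
  obtain ⟨y, hy, hk, hc⟩ := K.conj_to_Q hG (x := x)
    (by rcases hx with rfl | rfl <;> decide +kernel)
    (by rcases hx with rfl | rfl <;> decide +kernel)
    (by rcases hx with rfl | rfl <;> decide +kernel)
  have h := K.isConj_rep hy
  rcases hk with hk | hk
  · rw [hk, show rep 3 = 50 by decide +kernel] at h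
    exact Or.inr (hc.trans h.symm)
  · rw [hk, show rep 4 = 24 by decide +kernel, K.f_t] at h
    exact Or.inl (hc.trans h.symm)

end Cent

end Cfsg.Agent.PSpCent
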