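import Cfsg.Agent.Lib.PSpCent.Classes

/-!
# Normalising the model so that the first class is fused to `t`
-/

set_option autoImplicit false
set_option linter.style.haveILetI false

namespace Cfsg.Agent.PSpCent

open Cfsg

theorem enc_mod_two (a b s : ℕ) : enc a b s % 2 = s % 2 := by
  unfold enc
  split <;> omega

theorem mul_mod_two (x y : ℕ) : mul x y % 2 = (x + y) % 2 := by
  unfold mul
  split <;> exact enc_mod_two _ _ _

theorem tw_lt {x : ℕ} (hx : x < 576) : tw x < 576 := by
  unfold tw
  split
  · exact hx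
  · exact mul_lt _ _

/-- The two classes of involutions are `t` with the first class, and the second with the third. -/
structure Good {G : Type*} [Group G] {t : G} (K : Cent G t) : Prop where
  one_conj : IsConj (K.f 1) t
  not_two : ¬ IsConj (K.f 25) t
  not_three : ¬ IsConj (K.f 50) t
  two_three : IsConj (K.f 25) (K.f 50)

namespace Cent

variable {G : Type*} [Group G] {t : G} (K : Cent G t)

theorem f_tw {x : ℕ} (hx : x < 576) : K.f (tw x) = K.f x * t ^ (x % 2) := by
  unfold tw
  split
  next h => rw [h, pow_zero, mul_one]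
  next h => rw [K.hmul hx (by norm_num), K.f_t, show x % 2 = 1 by omega, pow_one]

/-- Composition with the flip. -/
def flip : Cent G t where
  f x := K.f (tw x)
  hmul {x y} hx hy := by
    rw [K.f_tw (mul_lt _ _), K.f_tw hx, K.f_tw hy, K.hmul hx hy, mul_mod_two]
    have hc : t ^ (x % 2) * K.f y = K.f y * t ^ (x % 2) :=
      ((show Commute t (K.f y) from (K.f_mem hy).symm).pow_left (x % 2)).eq
    have h2 : t * t = 1 := K.E_sq K.t_mem_E
    rw [mul_assoc (K.f x) (t ^ _), ← mul_assoc (t ^ _) (K.f y), hc, mul_assoc (K.f y), ← pow_add,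
      ← mul_assoc]
    congr 1
    rcases Nat.mod_two_eq_zero_or_one x with h | h <;> rcases Nat.mod_two_eq_zero_or_one y with h' | h' <;>
      simp [Nat.add_mod, h, h', pow_succ, h2]
  hinj {x y} hx hy h := by
    have e : ∀ z, z < 576 → tw (tw z) = z := fun z hz => by
      have := all576_spec chk_tw z hz
      simp only [Bool.and_eq_true, beq_iff_eq] at this
      exact this.1
    rw [← e x hx, ← e y hy, K.hinj (tw_lt hx) (tw_lt hy) h]
  mem_iff g := by
    rw [K.mem_iff]
    have e : ∀ z, z < 576 → tw (tw z) = z := fun z hz => by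
      have := all576_spec chk_tw z hz
      simp only [Bool.and_eq_true, beq_iff_eq] at this
      exact this.1
    exact ⟨fun ⟨x, hx, h⟩ => ⟨tw x, tw_lt hx, by rw [e x hx, h]⟩,
      fun ⟨x, hx, h⟩ => ⟨tw x, tw_lt hx, h⟩⟩
  f_t := K.f_t

theorem flip_f (x : ℕ) : K.flip.f x = K.f (tw x) := rfl

variable [Finite G]

theorem isConj_kind {x : ℕ} (hx : x < 576) (hk : kind x ≠ 0) :
    IsConj (K.f (rep (kind x))) (K.f x) := K.isConj_rep ((mem_invols hx).2 hk)

theorem good_or_good_flip (hG : ∀ H : Subgroup G, H.index ≠ 2) :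
    Good K ∨ Good K.flip := by
  have hone := K.rep_or_t hG (x := 1) (Or.inl rfl)
  have htwo := K.rep_or_t hG (x := 25) (Or.inr rfl)
  have h3 : ¬ IsConj (K.f 50) t := fun h =>
    K.not_both (hone.elim id fun h' => h'.trans h) (htwo.elim id fun h' => h'.trans h)
  rcases K.some_conj_t hG with h | h | h
  · refine Or.inl ⟨h, fun h2 => K.not_both h h2, h3, htwo.resolve_left fun h2 => K.not_both h h2⟩
  · refine Or.inr ?_
    have h1 : ¬ IsConj (K.f 1) t := fun h1 => K.not_both h1 h
    have e1 : IsConj (K.f 25) (K.flip.f 1) := by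
      have := K.isConj_kind (tw_lt (x := 1) (by norm_num)) (by rw [chk_tw_kind.1]; norm_num)
      rwa [chk_tw_kind.1] at this
    have e2 : IsConj (K.f 1) (K.flip.f 25) := by
      have := K.isConj_kind (tw_lt (x := 25) (by norm_num)) (by rw [chk_tw_kind.2.1]; norm_num)
      rwa [chk_tw_kind.2.1] at this
    have e3 : K.flip.f 50 = K.f 50 := by rw [flip_f]; rfl
    exact ⟨e1.symm.trans h, fun hh => h1 (e2.trans hh), e3 ▸ h3,
      e3 ▸ e2.symm.trans (hone.resolve_left h1)⟩
  · exact absurd h h3

include K in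
theorem exists_good (hG : ∀ H : Subgroup G, H.index ≠ 2) : ∃ K' : Cent G t, Good K' := by
  rcases K.good_or_good_flip hG with h | h
  · exact ⟨_, h⟩
  · exact ⟨_, h⟩

end Cent

end Cfsg.Agent.PSpCent
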