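import Cfsg.Agent.Lib.PSpCent.Setup

/-!
# The points form the model graph
-/

set_option autoImplicit false
set_option linter.style.haveILetI false

namespace Cfsg.Agent.PSpCent

open Cfsg

theorem phi_zero : ∀ i : Fin 5, phi i 0 = false := by decide +kernel

theorem bit_decomp : ∀ v < 16,
    v = (v &&& 1) ^^^ (v &&& 2) ^^^ (v &&& 4) ^^^ (v &&& 8) ∧
      (v &&& 1 = 0 ∨ v &&& 1 = bit 0) ∧ (v &&& 2 = 0 ∨ v &&& 2 = bit 1) ∧
      (v &&& 4 = 0 ∨ v &&& 4 = bit 2) ∧ (v &&& 8 = 0 ∨ v &&& 8 = bit 3) := by decide +kernel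

theorem mem_bits : ∀ v < 16, ([1, 2, 4, 8, 15] : List ℕ).contains v = true ↔ ∃ i : Fin 5, bit i = v := by
  decide +kernel

theorem madj_symm : ∀ a < 27, ∀ b < 27, madj a b = madj b a := by decide +kernel

theorem madj_irrefl : ∀ a < 27, madj a a = false := by decide +kernel

theorem madj_E_L : ∀ (i : Fin 5) (b : Bool), madj 0 (1 + 2 * i.1 + b.toNat) = true := by decide +kernel

theorem madj_E_R : ∀ v < 16, madj 0 (11 + v) = false := by decide +kernel

theorem madj_L_L : ∀ (i i' : Fin 5) (b b' : Bool),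
    madj (1 + 2 * i.1 + b.toNat) (1 + 2 * i'.1 + b'.toNat) = decide (i = i' ∧ b ≠ b') := by
  decide +kernel

theorem madj_L_R : ∀ (i : Fin 5) (b : Bool), ∀ v < 16,
    madj (1 + 2 * i.1 + b.toNat) (11 + v) = (b == phi i v) := by decide +kernel

theorem madj_R_R : ∀ u < 16, ∀ v < 16,
    madj (11 + u) (11 + v) = ([1, 2, 4, 8, 15] : List ℕ).contains (u ^^^ v) := by decide +kernel

theorem idx_odd : ∀ (i : Fin 5), (1 + 2 * i.1 + 1 - 1) / 2 = i.1 := by decide

namespace Cent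

variable {G : Type*} [Group G] {t : G} (K : Cent G t)

/-- A base far point with the two neighbours of `E` on each line through `E`, `p0` being adjacent
to the base point. -/
structure Frame [Finite G] where
  q : Subgroup G
  p0 : Fin 5 → Subgroup G
  p1 : Fin 5 → Subgroup G
  q_far : K.Far q
  nb0 : ∀ i, K.Nb i (p0 i)
  nb1 : ∀ i, K.Nb i (p1 i)
  ne : ∀ i, p0 i ≠ p1 i
  only : ∀ i P, K.Nb i P → P = p0 i ∨ P = p1 i
  adj0 : ∀ i, Adj (t := t) (p0 i) q

variable [Finite G] (hK : Good K)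

include hK

theorem exists_frame : Nonempty K.Frame := by
  classical
  obtain ⟨q, hq⟩ := K.exists_far hK
  choose p0 h0 ha0 using fun i => K.exists_nb_adj hK hq i
  have h1 : ∀ i, ∃ P, K.Nb i P ∧ P ≠ p0 i ∧ ∀ R, K.Nb i R → R = p0 i ∨ R = P := by
    intro i
    obtain ⟨x, y, hxy, hS⟩ := Set.ncard_eq_two.1 (K.card_nb hK i)
    have hmem : ∀ R, K.Nb i R ↔ R = x ∨ R = y := fun R => by
      have : R ∈ {P | K.Nb i P} ↔ R ∈ ({x, y} : Set (Subgroup G)) := by rw [hS]
      simpa using this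
    rcases (hmem _).1 (h0 i) with e | e <;> rw [e]
    · exact ⟨y, (hmem y).2 (Or.inr rfl), hxy.symm, fun R hR => (hmem R).1 hR⟩
    · exact ⟨x, (hmem x).2 (Or.inl rfl), hxy, fun R hR => ((hmem R).1 hR).symm⟩
  choose p1 h1 hne honly using h1
  exact ⟨⟨q, p0, p1, hq, h0, h1, fun i => (hne i).symm, honly, ha0⟩⟩

theorem nb_cj {i : Fin 5} {P : Subgroup G} (hP : K.Nb i P) {a : G} (ha : a ∈ K.E) :
    K.Nb i (cj a P) := by
  refine ⟨hP.1.map K a, ?_, fun e => hP.2.2 ?_⟩
  · have := mem_cj (g := a) hP.2.1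
    rwa [K.E_comm ha (K.A_mem hK i).1, mul_inv_cancel_right] at this
  · have := congrArg (cj a) e
    rwa [cj_invol (K.E_sq ha), K.cj_E ha] at this

variable {K} (F : K.Frame)

/-- The two neighbours of `E` on the `i`-th line. -/
def L {K : Cent G t} (F : K.Frame) (i : Fin 5) (b : Bool) : Subgroup G :=
  cond b (F.p1 i) (F.p0 i)

omit hK in
theorem L_nb (i : Fin 5) (b : Bool) : K.Nb i (L F i b) := by
  cases b
  exacts [F.nb0 i, F.nb1 i]

theorem L_inj {i j : Fin 5} {b c : Bool} (h : L F i b = L F j c) : i = j ∧ b = c := by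
  have hi : i = j := K.nb_index hK (L_nb F i b) (h ▸ L_nb F j c)
  subst hi
  refine ⟨rfl, ?_⟩
  cases b <;> cases c
  exacts [rfl, absurd h (F.ne i), absurd h.symm (F.ne i), rfl]

theorem adj_q_iff (i : Fin 5) (b : Bool) : Adj (t := t) (L F i b) F.q ↔ b = false := by
  cases b
  · exact iff_of_true (F.adj0 i) rfl
  · exact iff_of_false (fun h => F.ne i (K.nb_adj_unique hK F.q_far (F.nb0 i) (F.nb1 i) (F.adj0 i) h))
      (by simp)

omit hK in
/-- The involution shared by `q` and its neighbour on the `i`-th line. -/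
noncomputable def y (i : Fin 5) : G := (F.adj0 i).2.choose

omit hK in
theorem y_spec (i : Fin 5) : IsConj t (y F i) ∧ y F i ∈ F.p0 i ∧ y F i ∈ F.q :=
  (F.adj0 i).2.choose_spec

/-- The other far point on the line of `q` and `p0 i`. -/
theorem line_q (i : Fin 5) : K.Far (cj (K.A i) F.q) ∧ cj (K.A i) F.q ≠ F.q ∧
    y F i ∈ cj (K.A i) F.q ∧ cj (K.A i) (F.p0 i) = F.p0 i ∧
    (∀ P, K.IsPt P → y F i ∈ P → P = F.p0 i ∨ P = F.q ∨ P = cj (K.A i) F.q) := by
  classical
  have hA := (K.A_mem hK i).1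
  have hfar : K.Far (cj (K.A i) F.q) := Far.cj K F.q_far hA
  have hne : cj (K.A i) F.q ≠ F.q := fun e => by
    have h1 := K.E_free hK F.q_far.1 F.q_far.2.1 F.q_far.2.2 hA e
    have h2 := (K.A_mem hK i).2
    rw [h1, isConj_one_left] at h2
    simpa [h2] using K.t_order
  obtain ⟨hy, hy0, hyq⟩ := y_spec F i
  have hfix : cj (K.A i) (F.p0 i) = F.p0 i := K.map_of_mem (F.nb0 i).1 (F.nb0 i).2.1
  have hy' : y F i ∈ cj (K.A i) F.q := by
    have := mem_cj (g := K.A i) hyq
    rwa [(F.nb0 i).1.comm K (F.nb0 i).2.1 hy0, mul_inv_cancel_right] at this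
  refine ⟨hfar, hne, hy', hfix, fun P hP hyP => ?_⟩
  obtain ⟨S, hS, hmem⟩ := K.three_through hy
  have hne0 : F.p0 i ≠ F.q := (F.adj0 i).1
  have hne1 : F.p0 i ≠ cj (K.A i) F.q := fun e => hfar.2.2 (e ▸ K.adj_E_nb hK (F.nb0 i))
  have h3 : ({F.p0 i, F.q, cj (K.A i) F.q} : Finset (Subgroup G)).card = 3 :=
    Finset.card_eq_three.2 ⟨_, _, _, hne0, hne1, hne.symm, rfl⟩
  have heq : ({F.p0 i, F.q, cj (K.A i) F.q} : Finset (Subgroup G)) = S := by
    refine Finset.eq_of_subset_of_card_le (fun R hR => ?_) (by rw [hS, h3])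
    simp only [Finset.mem_insert, Finset.mem_singleton] at hR
    rcases hR with rfl | rfl | rfl
    exacts [(hmem _).2 ⟨(F.nb0 i).1, hy0⟩, (hmem _).2 ⟨F.q_far.1, hyq⟩, (hmem _).2 ⟨hfar.1, hy'⟩]
  have := (hmem P).2 ⟨hP, hyP⟩
  rw [← heq] at this
  simpa using this

theorem y_inj {i j : Fin 5} (h : y F i = y F j) : i = j := by
  obtain ⟨-, hj0, -⟩ := y_spec F j
  obtain ⟨hfar, -, -, -, honly⟩ := line_q hK F i
  rcases honly _ (F.nb0 j).1 (h ▸ hj0) with e | e | e
  · exact (K.nb_index hK (F.nb0 j) (e ▸ F.nb0 i)).symm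
  · exact absurd (e ▸ K.adj_E_nb hK (F.nb0 j)) F.q_far.2.2
  · exact absurd (e ▸ K.adj_E_nb hK (F.nb0 j)) hfar.2.2

theorem flip_single (i j : Fin 5) (b : Bool) :
    cj (K.A j) (L F i b) = L F i (xor b (decide (i ≠ j))) := by
  by_cases hij : i = j
  · subst hij
    simp only [ne_eq, not_true_eq_false, decide_false, Bool.xor_false]
    exact K.map_of_mem (L_nb F i b).1 (L_nb F i b).2.1
  simp only [ne_eq, hij, not_false_eq_true, decide_true, Bool.xor_true]
  have key : cj (K.A j) (F.p0 i) = F.p1 i := by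
    refine (F.only i _ (K.nb_cj hK (F.nb0 i) (K.A_mem hK j).1)).resolve_left fun e => ?_
    obtain ⟨hfar, hne, hyq', -, honly⟩ := line_q hK F j
    have hadj := adj_map (K.A j) (F.adj0 i)
    rw [show (F.p0 i).map (MulAut.conj (K.A j)).toMonoidHom = F.p0 i from e] at hadj
    obtain ⟨hne', c, hct, hcP, hcq'⟩ := hadj
    obtain ⟨hyi, hyi0, hyiq⟩ := y_spec F i
    obtain ⟨hyj, -, hyjq⟩ := y_spec F j
    have h := K.triangle hK (F.nb0 i).1 F.q_far.1 hfar.1 (F.adj0 i).1 hne.symm hne' hyi hyj hct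
      hyi0 hyiq hyjq hyq' hcP hcq'
    exact hij (y_inj hK F h.1)
  cases b
  · exact key
  · show cj (K.A j) (F.p1 i) = F.p0 i
    rw [← key, cj_invol (K.E_sq (K.A_mem hK j).1)]

theorem flip_W (i : Fin 5) (b : Bool) {v : ℕ} (hv : v < 16) :
    cj (K.W v) (L F i b) = L F i (xor b (phi i v)) := by
  let P : ℕ → Prop := fun u => u < 16 ∧ ∀ b, cj (K.W u) (L F i b) = L F i (xor b (phi i u))
  have h0 : P 0 := ⟨by norm_num, fun b => by rw [K.W_zero, cj_one, phi_zero, Bool.xor_false]⟩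
  have hb : ∀ j : Fin 5, P (bit j) := fun j =>
    ⟨(chk_aC j).2.1, fun b => by rw [K.W_bit, flip_single hK F i j b, chk_phi.1 i j]⟩
  have hx : ∀ u w, P u → P w → P (u ^^^ w) := fun u w hu hw =>
    ⟨Nat.xor_lt_two_pow (n := 4) hu.1 hw.1, fun b => by
      rw [← K.W_mul hu.1 hw.1, ← cj_cj, hw.2, hu.2, chk_phi.2 i u hu.1 w hw.1]
      congr 1
      cases b <;> cases phi i u <;> cases phi i w <;> rfl⟩
  obtain ⟨he, d1, d2, d3, d4⟩ := bit_decomp v hv
  have hz : ∀ {u : ℕ} {j : Fin 5}, (u = 0 ∨ u = bit j) → P u := fun {u j} h =>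
    h.elim (fun e => e ▸ h0) fun e => e ▸ hb j
  have hP : P v := by
    rw [he]
    exact hx _ _ (hx _ _ (hx _ _ (hz d1) (hz d2)) (hz d3)) (hz d4)
  exact hP.2 b

/-- The far neighbours of `q`. -/
theorem adj_q_far {v : ℕ} (hv : v < 16) :
    Adj (t := t) F.q (cj (K.W v) F.q) ↔ ∃ i : Fin 5, bit i = v := by
  classical
  constructor
  · rintro ⟨hne, a, hat, haq, haq'⟩
    have hbij : Function.Bijective fun i => (⟨y F i, (y_spec F i).2.2, (y_spec F i).1⟩ :
        {a : G // a ∈ F.q ∧ IsConj t a}) := by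
      haveI : Fintype {a : G // a ∈ F.q ∧ IsConj t a} := Fintype.ofFinite _
      refine (Fintype.bijective_iff_injective_and_card _).2
        ⟨fun i j h => y_inj hK F (congrArg Subtype.val h), ?_⟩
      rw [← Nat.card_eq_fintype_card (α := {a : G // a ∈ F.q ∧ IsConj t a}),
        K.five_of hK F.q_far.1, Fintype.card_fin]
    obtain ⟨i, hi⟩ := hbij.2 ⟨a, haq, hat⟩
    have hi' : y F i = a := congrArg Subtype.val hi
    obtain ⟨hfar, -, -, -, honly⟩ := line_q hK F i
    have hW := Far.cj K F.q_far (K.W_mem hv)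
    rcases honly _ hW.1 (hi' ▸ haq') with e | e | e
    · exact absurd (e ▸ K.adj_E_nb hK (F.nb0 i)) hW.2.2
    · exact absurd e.symm hne
    · refine ⟨i, (K.far_inj hK F.q_far (chk_aC i).2.1 hv ?_)⟩
      rw [K.W_bit, e]
  · rintro ⟨i, rfl⟩
    obtain ⟨-, hne, hy', -, -⟩ := line_q hK F i
    rw [K.W_bit]
    exact ⟨hne.symm, y F i, (y_spec F i).1, (y_spec F i).2.2, hy'⟩

/-- The point of a vertex. -/
def vert {K : Cent G t} (F : K.Frame) (k : Fin 27) : Subgroup G :=
  if k.1 = 0 then K.E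
  else if h : k.1 ≤ 10 then L F ⟨(k.1 - 1) / 2, by omega⟩ ((k.1 - 1) % 2 == 1)
  else cj (K.W (k.1 - 11)) F.q

omit hK in
theorem vert_cases (k : Fin 27) :
    (k.1 = 0 ∧ vert F k = K.E) ∨
    (∃ (i : Fin 5) (b : Bool), k.1 = 1 + 2 * i.1 + b.toNat ∧ vert F k = L F i b) ∨
    (∃ v < 16, k.1 = 11 + v ∧ vert F k = cj (K.W v) F.q) := by
  by_cases h0 : k.1 = 0
  · exact Or.inl ⟨h0, by simp [vert, h0]⟩
  by_cases h1 : k.1 ≤ 10
  · refine Or.inr (Or.inl ⟨⟨(k.1 - 1) / 2, by omega⟩, (k.1 - 1) % 2 == 1, ?_, ?_⟩)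
    · rcases Nat.mod_two_eq_zero_or_one (k.1 - 1) with h | h <;> simp [h] <;> omega
    · simp [vert, h0, h1]
  · exact Or.inr (Or.inr ⟨k.1 - 11, by omega, by omega, by simp [vert, h0, h1]⟩)

omit hK in
theorem vert_isPt (k : Fin 27) : K.IsPt (vert F k) := by
  rcases vert_cases F k with ⟨-, h⟩ | ⟨i, b, -, h⟩ | ⟨v, -, -, h⟩ <;> rw [h]
  exacts [K.isPt_E, (L_nb F i b).1, F.q_far.1.map K _]

theorem vert_surj {P : Subgroup G} (hP : K.IsPt P) : ∃ k, vert F k = P := by
  rcases K.nb_cases hK hP with rfl | ⟨i, h⟩ | h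
  · exact ⟨0, by simp [vert]⟩
  · have hi := i.2
    rcases F.only i P h with rfl | rfl
    · refine ⟨⟨1 + 2 * i.1, by omega⟩, ?_⟩
      simp [vert, show 1 + 2 * i.1 ≤ 10 by omega, L]
    · refine ⟨⟨2 + 2 * i.1, by omega⟩, ?_⟩
      have e1 : (2 + 2 * i.1 - 1) / 2 = i.1 := by omega
      have e2 : ((2 + 2 * i.1 - 1) % 2 == 1) = true := by simp
      simp only [vert, show ¬ 2 + 2 * i.1 = 0 by omega, show 2 + 2 * i.1 ≤ 10 by omega, if_false,
        dite_true, L, e2, cond_true]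
      exact congrArg F.p1 (Fin.ext e1)
  · obtain ⟨v, hv, rfl⟩ := K.far_orbit hK F.q_far h
    exact ⟨⟨11 + v, by omega⟩, by simp [vert, show ¬ 11 + v ≤ 10 by omega]⟩

theorem adj_vert (j k : Fin 27) : Adj (t := t) (vert F j) (vert F k) ↔ madj j k = true := by
  wlog hjk : j.1 ≤ k.1 generalizing j k with H
  · rw [madj_symm j.1 j.2 k.1 k.2]
    exact ⟨fun h => (H k j (by omega)).1 h.symm', fun h => ((H k j (by omega)).2 h).symm'⟩
  rcases vert_cases F j with ⟨hj, ej⟩ | ⟨i, b, hj, ej⟩ | ⟨u, hu, hj, ej⟩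
  · rcases vert_cases F k with ⟨hk, ek⟩ | ⟨i', b', hk, ek⟩ | ⟨v, hv, hk, ek⟩ <;> rw [ej, ek, hj, hk]
    · simp [Adj, madj]
    · exact iff_of_true (K.adj_E_nb hK (L_nb F i' b')) (madj_E_L i' b')
    · exact iff_of_false (Far.cj K F.q_far (K.W_mem hv)).2.2 (by simp [madj_E_R v hv])
  · have hi := i.2
    rcases vert_cases F k with ⟨hk, -⟩ | ⟨i', b', hk, ek⟩ | ⟨v, hv, hk, ek⟩
    · have := b.toNat_le
      omega
    · have hi' := i'.2
      rw [ej, ek, hj, hk]
      by_cases he : i = i'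
      · subst he
        by_cases hbb : b = b'
        · subst hbb
          exact iff_of_false (fun h => h.1 rfl) (by simp [madj_L_L])
        · exact iff_of_true ⟨fun e => hbb (L_inj hK F e).2, K.A i, (K.A_mem hK i).2,
            (L_nb F i b).2.1, (L_nb F i b').2.1⟩ (by simp [madj_L_L, hbb])
      · refine iff_of_false (fun ⟨hne, c, hct, hc, hc'⟩ => he ?_) ?_
        · have h := K.triangle hK (L_nb F i b).1 K.isPt_E (L_nb F i' b').1 (L_nb F i b).2.2
            (L_nb F i' b').2.2.symm hne (K.A_mem hK i).2 (K.A_mem hK i').2 hct (L_nb F i b).2.1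
            (K.A_mem hK i).1 (K.A_mem hK i').1 (L_nb F i' b').2.1 hc hc'
          exact K.A_inj h.1
        · simp [madj_L_L, he]
    · rw [ej, ek, hj, hk]
      have hW := K.E_sq (K.W_mem hv)
      have e1 : Adj (t := t) (L F i b) (cj (K.W v) F.q) ↔
          Adj (t := t) (L F i (xor b (phi i v))) F.q := by
        constructor
        · intro h
          have := adj_map (K.W v) h
          rwa [show (L F i b).map (MulAut.conj (K.W v)).toMonoidHom = L F i (xor b (phi i v)) from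
              flip_W hK F i b hv,
            show (cj (K.W v) F.q).map (MulAut.conj (K.W v)).toMonoidHom = F.q from
              cj_invol hW F.q] at this
        · intro h
          have := adj_map (K.W v) h
          rw [show (L F i (xor b (phi i v))).map (MulAut.conj (K.W v)).toMonoidHom =
              L F i (xor (xor b (phi i v)) (phi i v)) from flip_W hK F i _ hv] at this
          rwa [show xor (xor b (phi i v)) (phi i v) = b by cases b <;> cases phi i v <;> rfl] at this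
      rw [e1, adj_q_iff hK F, madj_L_R i b v hv]
      cases b <;> cases phi i v <;> simp
  · rcases vert_cases F k with ⟨hk, -⟩ | ⟨i', b', hk, -⟩ | ⟨v, hv, hk, ek⟩
    · omega
    · have := i'.2
      have := b'.toNat_le
      omega
    · rw [ej, ek, hj, hk]
      have hWu := K.E_sq (K.W_mem hu)
      have hx : u ^^^ v < 16 := Nat.xor_lt_two_pow (n := 4) hu hv
      have e1 : Adj (t := t) (cj (K.W u) F.q) (cj (K.W v) F.q) ↔
          Adj (t := t) F.q (cj (K.W (u ^^^ v)) F.q) := by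
        constructor
        · intro h
          have := adj_map (K.W u) h
          rwa [show (cj (K.W u) F.q).map (MulAut.conj (K.W u)).toMonoidHom = F.q from
              cj_invol hWu F.q,
            show (cj (K.W v) F.q).map (MulAut.conj (K.W u)).toMonoidHom =
                cj (K.W (u ^^^ v)) F.q by rw [map_comp, K.W_mul hu hv]] at this
        · intro h
          have := adj_map (K.W u) h
          rwa [show (cj (K.W (u ^^^ v)) F.q).map (MulAut.conj (K.W u)).toMonoidHom =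
              cj (K.W v) F.q by
                rw [map_comp, K.W_mul hu hx, ← Nat.xor_assoc, Nat.xor_self, Nat.zero_xor]] at this
      rw [e1, adj_q_far hK F hx, ← mem_bits _ hx, madj_R_R u hu v hv]

end Cent

end Cfsg.Agent.PSpCent
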