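import Cfsg.Agent.Lib.PSpCent.Cent
import Cfsg.Agent.Lib.AutPSp.Card
import Cfsg.Prelude.Def_Classical
import Mathlib.Data.ZMod.Basic
import Mathlib.LinearAlgebra.Matrix.Determinant.Basic
import Mathlib.Algebra.Field.ZMod
import Mathlib.Tactic.FinCases
import Mathlib.Tactic.LinearCombination
import Mathlib.FieldTheory.Finite.Basic

/-!
# The centraliser of a central involution of PSp₄(3) is the model
-/

set_option autoImplicit false
set_option linter.style.haveILetI false
set_option maxRecDepth 100000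

open Matrix

namespace Cfsg.Agent.PSpCent

/-- The 24 matrices, four entries of two bits each. -/
def matTab : ℕ := 2112403715100472423218843999680296279631631802618242933825

def ent (i k : ℕ) : ℕ := (matTab >>> (2 * (4 * i + k))) &&& 3

def m2 (i : ℕ) : Matrix (Fin 2) (Fin 2) (ZMod 3) :=
  Matrix.of fun k l => (ent i (2 * k.1 + l.1) : ZMod 3)

theorem m2_det : ∀ i < 24, m2 i 0 0 * m2 i 1 1 - m2 i 0 1 * m2 i 1 0 = 1 := by decide +kernel

theorem m2_mul' : ∀ a < 24, ∀ b < 24,
    m2 (m24 a b) 0 0 = m2 a 0 0 * m2 b 0 0 + m2 a 0 1 * m2 b 1 0 ∧ m2 (m24 a b) 0 1 = m2 a 0 0 * m2 b 0 1 + m2 a 0 1 * m2 b 1 1 ∧ m2 (m24 a b) 1 0 = m2 a 1 0 * m2 b 0 0 + m2 a 1 1 * m2 b 1 0 ∧ m2 (m24 a b) 1 1 = m2 a 1 0 * m2 b 0 1 + m2 a 1 1 * m2 b 1 1 := by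
  decide +kernel

theorem m2_mul (a : ℕ) (ha : a < 24) (b : ℕ) (hb : b < 24) (k l : Fin 2) :
    m2 (m24 a b) k l = m2 a k 0 * m2 b 0 l + m2 a k 1 * m2 b 1 l := by
  obtain ⟨h1, h2, h3, h4⟩ := m2_mul' a ha b hb
  fin_cases k <;> fin_cases l <;> assumption

theorem m2_neg' : ∀ i < 24, m2 ((i + 12) % 24) 0 0 = - m2 i 0 0 ∧ m2 ((i + 12) % 24) 0 1 = - m2 i 0 1 ∧ m2 ((i + 12) % 24) 1 0 = - m2 i 1 0 ∧ m2 ((i + 12) % 24) 1 1 = - m2 i 1 1 := by decide +kernel

theorem m2_neg (i : ℕ) (hi : i < 24) (k l : Fin 2) : m2 ((i + 12) % 24) k l = - m2 i k l := by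
  obtain ⟨h1, h2, h3, h4⟩ := m2_neg' i hi
  fin_cases k <;> fin_cases l <;> assumption

theorem m2_inj' : ((List.range 24).all fun i => (List.range 24).all fun j => i == j ||
    !((m2 i 0 0 == m2 j 0 0) && (m2 i 0 1 == m2 j 0 1) && (m2 i 1 0 == m2 j 1 0)
      && (m2 i 1 1 == m2 j 1 1))) = true := by decide +kernel

theorem m2_inj (i : ℕ) (hi : i < 24) (j : ℕ) (hj : j < 24) (h : ∀ k l : Fin 2, m2 i k l = m2 j k l) :
    i = j := by
  have h' := m2_inj'
  simp only [List.all_eq_true, List.mem_range, Bool.or_eq_true, beq_iff_eq] at h'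
  exact (h' i hi j hj).resolve_right (by simp [h])

theorem m2_surj : ∀ p q r s : ZMod 3, p * s - q * r = 1 →
    ∃ i < 24, m2 i 0 0 = p ∧ m2 i 0 1 = q ∧ m2 i 1 0 = r ∧ m2 i 1 1 = s := by decide +kernel

theorem m2_one' : m2 0 0 0 = 1 ∧ m2 0 0 1 = 0 ∧ m2 0 1 0 = 0 ∧ m2 0 1 1 = 1 := by decide +kernel

theorem m2_twelve' : m2 12 0 0 = -1 ∧ m2 12 0 1 = 0 ∧ m2 12 1 0 = 0 ∧ m2 12 1 1 = -1 := by decide +kernel

theorem m2_one (k l : Fin 2) : m2 0 k l = if k = l then 1 else 0 := by
  obtain ⟨h1, h2, h3, h4⟩ := m2_one'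
  fin_cases k <;> fin_cases l <;> simp_all

theorem m2_twelve (k l : Fin 2) : m2 12 k l = if k = l then -1 else 0 := by
  obtain ⟨h1, h2, h3, h4⟩ := m2_twelve'
  fin_cases k <;> fin_cases l <;> simp_all

section Blocks

variable {R : Type*} [CommRing R]

/-- The position of a coordinate inside its plane. -/
def side : Fin 2 ⊕ Fin 2 → Fin 2
  | Sum.inl _ => 0
  | Sum.inr _ => 1

/-- The plane of a coordinate. -/
def plane : Fin 2 ⊕ Fin 2 → Fin 2
  | Sum.inl i => i
  | Sum.inr i => i

/-- The coordinate at position `k` in plane `i`. -/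
def coord (i k : Fin 2) : Fin 2 ⊕ Fin 2 := if k = 0 then Sum.inl i else Sum.inr i

theorem coord_plane_side (p : Fin 2 ⊕ Fin 2) : coord (plane p) (side p) = p := by
  cases p <;> rfl

theorem plane_coord (i k : Fin 2) : plane (coord i k) = i := by
  unfold coord
  split <;> rfl

theorem side_coord (i k : Fin 2) : side (coord i k) = k := by
  unfold coord
  fin_cases k <;> rfl

/-- Block monomial matrices with respect to the two hyperbolic planes. -/
def blk (m : Fin 2 → Matrix (Fin 2) (Fin 2) R) (s : Fin 2) :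
    Matrix (Fin 2 ⊕ Fin 2) (Fin 2 ⊕ Fin 2) R :=
  Matrix.of fun p q => if plane q = plane p + s then m (plane p) (side p) (side q) else 0

theorem blk_mul (m n : Fin 2 → Matrix (Fin 2) (Fin 2) R) (s u : Fin 2) :
    blk m s * blk n u = blk (fun i => m i * n (i + s)) (s + u) := by
  ext p q
  simp only [Matrix.mul_apply, blk, Matrix.of_apply, Fintype.sum_sum_type, Fin.sum_univ_two, plane,
    side]
  rcases p with p | p <;> rcases q with q | q <;> fin_cases p <;> fin_cases q <;> fin_cases s <;>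
    fin_cases u <;> simp

theorem blk_neg (m : Fin 2 → Matrix (Fin 2) (Fin 2) R) (s : Fin 2) :
    blk (fun i => - m i) s = - blk m s := by
  ext p q
  simp only [blk, Matrix.of_apply, Matrix.neg_apply]
  split <;> simp

theorem blk_coord (m : Fin 2 → Matrix (Fin 2) (Fin 2) R) (s i k l : Fin 2) :
    blk m s (coord i k) (coord (i + s) l) = m i k l := by
  simp [blk, plane_coord, side_coord]

theorem blk_mem_iff (m : Fin 2 → Matrix (Fin 2) (Fin 2) R) (s : Fin 2) :
    blk m s ∈ Matrix.symplecticGroup (Fin 2) R ↔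
      ∀ i, m i 0 0 * m i 1 1 - m i 0 1 * m i 1 0 = 1 := by
  rw [SymplecticGroup.mem_iff]
  constructor
  · intro h i
    have h' := congrFun (congrFun h (Sum.inr i)) (Sum.inl i)
    fin_cases i <;> fin_cases s <;>
      simp [Matrix.mul_apply, blk, Matrix.J, Fintype.sum_sum_type, Fin.sum_univ_two, plane, side]
        at h' ⊢ <;>
      linear_combination h'
  · intro h
    have h0 := h 0
    have h1 := h 1
    ext p q
    rcases p with p | p <;> rcases q with q | q <;> fin_cases p <;> fin_cases q <;> fin_cases s <;>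
      simp [Matrix.mul_apply, blk, Matrix.J, Fintype.sum_sum_type, Fin.sum_univ_two, plane, side] <;>
      first
        | ring1
        | linear_combination h0
        | linear_combination h1
        | linear_combination -h0
        | linear_combination -h1

end Blocks

variable {F : Type*} [Field F] (φ : ZMod 3 →+* F)

/-- The matrix of a pair of indices and a swap. -/
def pairMat (a b : ℕ) (s : Fin 2) : Matrix (Fin 2 ⊕ Fin 2) (Fin 2 ⊕ Fin 2) F :=
  blk ![(m2 a).map φ, (m2 b).map φ] s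

/-- The matrix of a code. -/
def X (x : ℕ) : Matrix (Fin 2 ⊕ Fin 2) (Fin 2 ⊕ Fin 2) F :=
  pairMat φ (x / 48) (x / 2 % 24) ⟨x % 2, Nat.mod_lt _ (by norm_num)⟩

theorem map_m24 {a b : ℕ} (ha : a < 24) (hb : b < 24) :
    (m2 (m24 a b)).map φ = (m2 a).map φ * (m2 b).map φ := by
  ext k l
  simp [Matrix.mul_apply, Fin.sum_univ_two, m2_mul a ha b hb k l]

theorem map_neg24 {a : ℕ} (ha : a < 24) : (m2 ((a + 12) % 24)).map φ = - (m2 a).map φ := by
  ext k l
  simp [m2_neg a ha k l]

theorem pairMat_mem {a b : ℕ} (ha : a < 24) (hb : b < 24) (s : Fin 2) :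
    pairMat φ a b s ∈ Matrix.symplecticGroup (Fin 2) F := by
  rw [pairMat, blk_mem_iff]
  intro i
  fin_cases i
  · simpa using congrArg φ (m2_det a ha)
  · simpa using congrArg φ (m2_det b hb)

theorem X_mem {x : ℕ} (hx : x < 576) : X φ x ∈ Matrix.symplecticGroup (Fin 2) F :=
  pairMat_mem φ (by omega) (Nat.mod_lt _ (by norm_num)) _

theorem X_enc {a b : ℕ} (ha : a < 24) (hb : b < 24) (s : ℕ) :
    X φ (enc a b s) = pairMat φ a b ⟨s % 2, Nat.mod_lt _ (by norm_num)⟩ ∨
      X φ (enc a b s) = - pairMat φ a b ⟨s % 2, Nat.mod_lt _ (by norm_num)⟩ := by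
  by_cases h : a < 12
  · left
    simp only [X, enc, h, if_true, show ((a * 24 + b) * 2 + s % 2) / 48 = a by omega,
      show ((a * 24 + b) * 2 + s % 2) / 2 % 24 = b by omega,
      show ((a * 24 + b) * 2 + s % 2) % 2 = s % 2 by omega]
  · right
    simp only [X, enc, h, if_false,
      show (((a - 12) * 24 + (b + 12) % 24) * 2 + s % 2) / 48 = (a + 12) % 24 by omega,
      show (((a - 12) * 24 + (b + 12) % 24) * 2 + s % 2) / 2 % 24 = (b + 12) % 24 by omega,
      show (((a - 12) * 24 + (b + 12) % 24) * 2 + s % 2) % 2 = s % 2 by omega]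
    rw [pairMat, pairMat, map_neg24 φ ha, map_neg24 φ hb, ← blk_neg]
    congr 1
    ext i
    fin_cases i <;> simp

theorem X_mul {x y : ℕ} (hx : x < 576) (hy : y < 576) :
    X φ (mul x y) = X φ x * X φ y ∨ X φ (mul x y) = -(X φ x * X φ y) := by
  have hx1 : x / 48 < 24 := by omega
  have hx2 : x / 2 % 24 < 24 := Nat.mod_lt _ (by norm_num)
  have hy1 : y / 48 < 24 := by omega
  have hy2 : y / 2 % 24 < 24 := Nat.mod_lt _ (by norm_num)
  have hs : ∀ (hh : (x + y) % 2 < 2), (⟨x % 2, Nat.mod_lt _ (by norm_num)⟩ +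
      ⟨y % 2, Nat.mod_lt _ (by norm_num)⟩ : Fin 2) = ⟨(x + y) % 2, hh⟩ := fun hh => by
    refine Fin.ext ?_
    simp [Fin.val_add, Nat.add_mod]
  rw [show X φ x * X φ y = pairMat φ (x / 48) (x / 2 % 24) ⟨x % 2, Nat.mod_lt _ (by norm_num)⟩ *
    pairMat φ (y / 48) (y / 2 % 24) ⟨y % 2, Nat.mod_lt _ (by norm_num)⟩ from rfl]
  simp only [pairMat, blk_mul, hs (Nat.mod_lt _ (by norm_num))]
  rcases Nat.mod_two_eq_zero_or_one x with h | h
  · rw [show (⟨x % 2, Nat.mod_lt _ (by norm_num)⟩ : Fin 2) = 0 from Fin.ext h]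
    have e : (fun i => ![(m2 (x / 48)).map φ, (m2 (x / 2 % 24)).map φ] i *
        ![(m2 (y / 48)).map φ, (m2 (y / 2 % 24)).map φ] (i + (0 : Fin 2))) =
        ![(m2 (m24 (x / 48) (y / 48))).map φ, (m2 (m24 (x / 2 % 24) (y / 2 % 24))).map φ] := by
      ext i
      fin_cases i <;> simp [map_m24 φ hx1 hy1, map_m24 φ hx2 hy2]
    rw [e, mul, if_pos h]
    exact X_enc φ (m24_lt _ _) (m24_lt _ _) _
  · rw [show (⟨x % 2, Nat.mod_lt _ (by norm_num)⟩ : Fin 2) = 1 from Fin.ext h]
    have e : (fun i => ![(m2 (x / 48)).map φ, (m2 (x / 2 % 24)).map φ] i *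
        ![(m2 (y / 48)).map φ, (m2 (y / 2 % 24)).map φ] (i + (1 : Fin 2))) =
        ![(m2 (m24 (x / 48) (y / 2 % 24))).map φ, (m2 (m24 (x / 2 % 24) (y / 48))).map φ] := by
      ext i
      fin_cases i <;> simp [map_m24 φ hx1 hy2, map_m24 φ hx2 hy1]
    rw [e, mul, if_neg (by omega)]
    exact X_enc φ (m24_lt _ _) (m24_lt _ _) _

theorem X_pm_inj {x y : ℕ} (hx : x < 576) (hy : y < 576)
    (h : X φ x = X φ y ∨ X φ x = - X φ y) : x = y := by
  have hφ := φ.injective
  have h2 : (2 : ZMod 3) ≠ 0 := by decide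
  have key : ∀ (i : Fin 2) (k l : Fin 2), ∀ z,
      X φ z (coord i k) (coord (i + ⟨z % 2, Nat.mod_lt _ (by norm_num)⟩) l) =
        φ (![m2 (z / 48), m2 (z / 2 % 24)] i k l) := fun i k l z => by
    rw [X, pairMat, blk_coord]
    fin_cases i <;> rfl
  have hs : x % 2 = y % 2 := by
    by_contra hne
    -- a non-zero entry of `X y` sits where `X x` vanishes
    obtain ⟨l, hl⟩ : ∃ l, m2 (y / 48) 0 l ≠ 0 := by
      by_contra hcon
      push Not at hcon
      have := m2_det (y / 48) (by omega)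
      simp [hcon] at this
    have h0 : X φ x (coord 0 0) (coord ((0 : Fin 2) + ⟨y % 2, Nat.mod_lt _ (by norm_num)⟩) l) = 0 := by
      simp only [X, pairMat, blk, Matrix.of_apply, plane_coord]
      rw [if_neg]
      intro e
      have := congrArg Fin.val e
      simp at this
      omega
    have h1 := key 0 0 l y
    rcases h with h | h <;> rw [h] at h0
    · rw [h1] at h0
      exact hl ((map_eq_zero_iff φ hφ).1 h0)
    · rw [Matrix.neg_apply, h1, neg_eq_zero] at h0
      exact hl ((map_eq_zero_iff φ hφ).1 h0)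
  have hfin : (⟨x % 2, Nat.mod_lt _ (by norm_num)⟩ : Fin 2) = ⟨y % 2, Nat.mod_lt _ (by norm_num)⟩ :=
    Fin.ext hs
  rcases h with h | h
  · have ha : x / 48 = y / 48 := m2_inj _ (by omega) _ (by omega) fun k l => hφ (by
      have a := key 0 k l x
      rw [h, hfin, key 0 k l y] at a
      exact a.symm)
    have hb : x / 2 % 24 = y / 2 % 24 :=
      m2_inj _ (Nat.mod_lt _ (by norm_num)) _ (Nat.mod_lt _ (by norm_num)) fun k l => hφ (by
        have a := key 1 k l x
        rw [h, hfin, key 1 k l y] at a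
        exact a.symm)
    omega
  · exfalso
    have ha : x / 48 = (y / 48 + 12) % 24 := m2_inj _ (by omega) _ (Nat.mod_lt _ (by norm_num))
      fun k l => hφ (by
        have a := key 0 k l x
        rw [h, hfin, Matrix.neg_apply, key 0 k l y] at a
        rw [m2_neg _ (by omega) k l, map_neg]
        exact a.symm)
    omega

variable [Fintype F] (hF : Fintype.card F = 3)

include hF

/-- The matrix `-1` in the symplectic group. -/
theorem neg_one_mem_symp : (-1 : Matrix (Fin 2 ⊕ Fin 2) (Fin 2 ⊕ Fin 2) F) ∈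
    Matrix.symplecticGroup (Fin 2) F := by
  rw [SymplecticGroup.mem_iff]
  simp

theorem center_iff (z : Matrix.symplecticGroup (Fin 2) F) :
    z ∈ Subgroup.center (Matrix.symplecticGroup (Fin 2) F) ↔ z.1 = 1 ∨ z.1 = -1 := by
  classical
  let n : Matrix.symplecticGroup (Fin 2) F := ⟨-1, neg_one_mem_symp hF⟩
  have hn : n ∈ Subgroup.center (Matrix.symplecticGroup (Fin 2) F) :=
    Subgroup.mem_center_iff.2 fun g => Subtype.ext (by simp [n])
  have h2 : (2 : F) ≠ 0 := fun h => by
    have h3 : ((3 : ℕ) : F) = 0 := hF ▸ FiniteField.cast_card_eq_zero F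
    refine one_ne_zero (α := F) ?_
    push_cast at h3
    linear_combination h3 - h
  have hne : n ≠ 1 := fun h => h2 (by
    have := congrArg (fun A : Matrix.symplecticGroup (Fin 2) F => A.1 (Sum.inl 0) (Sum.inl 0)) h
    simp [n] at this
    linear_combination -this)
  have hc : Nat.card (Subgroup.center (Matrix.symplecticGroup (Fin 2) F)) = 2 := by
    rw [Cfsg.Agent.AutPSp.card_center le_rfl, hF]
    rfl
  constructor
  · intro hz
    obtain ⟨a, b, hab, huniv⟩ := Nat.card_eq_two_iff.1 hc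
    have hall : ∀ u : Subgroup.center (Matrix.symplecticGroup (Fin 2) F), u = a ∨ u = b := fun u => by
      have := Set.mem_univ u
      rw [← huniv] at this
      simpa using this
    have hne' : (⟨n, hn⟩ : Subgroup.center (Matrix.symplecticGroup (Fin 2) F)) ≠ 1 := fun h =>
      hne (congrArg Subtype.val h)
    have : (⟨z, hz⟩ : Subgroup.center (Matrix.symplecticGroup (Fin 2) F)) = 1 ∨
        (⟨z, hz⟩ : Subgroup.center (Matrix.symplecticGroup (Fin 2) F)) = ⟨n, hn⟩ := by
      rcases hall ⟨z, hz⟩ with e | e <;> rcases hall 1 with e1 | e1 <;>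
        rcases hall ⟨n, hn⟩ with e2 | e2 <;> simp_all
    rcases this with h | h
    · exact Or.inl (congrArg (fun u => u.1.1) h)
    · exact Or.inr (congrArg (fun u => u.1.1) h)
  · rintro (h | h)
    · rw [show z = 1 from Subtype.ext h]
      exact one_mem _
    · rw [show z = n from Subtype.ext h]
      exact hn

/-- Equality in the projective group is equality up to sign. -/
theorem mk_eq_iff (a b : Matrix.symplecticGroup (Fin 2) F) :
    (QuotientGroup.mk a : Cfsg.PSp 2 F) = QuotientGroup.mk b ↔ a.1 = b.1 ∨ a.1 = -b.1 := by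
  rw [QuotientGroup.eq, center_iff hF]
  constructor
  · rintro (h | h) <;>
      have h' := congrArg (fun M => a.1 * M) h <;>
      rw [show a.1 * (a⁻¹ * b).1 = (a * (a⁻¹ * b)).1 from rfl, mul_inv_cancel_left] at h'
    · left; simpa using h'.symm
    · right; simp [h']
  · rintro (h | h)
    · left; simp [show a = b from Subtype.ext h]
    · right
      have hb : b.1 = a.1 * (-1) := by simp [h]
      rw [show b = a * ⟨-1, neg_one_mem_symp hF⟩ from Subtype.ext hb, inv_mul_cancel_left]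

/-- The image of a code in the projective group. -/
noncomputable def θ (x : ℕ) : Cfsg.PSp 2 F :=
  if h : x < 576 then QuotientGroup.mk (⟨X φ x, X_mem φ h⟩ : Matrix.symplecticGroup (Fin 2) F) else 1

omit hF in
theorem θ_eq {x : ℕ} (h : x < 576) :
    θ φ x = QuotientGroup.mk (⟨X φ x, X_mem φ h⟩ : Matrix.symplecticGroup (Fin 2) F) :=
  dif_pos h

theorem θ_mul {x y : ℕ} (hx : x < 576) (hy : y < 576) :
    θ φ (mul x y) = θ φ x * θ φ y := by
  rw [θ_eq φ hx, θ_eq φ hy, θ_eq φ (mul_lt x y), ← QuotientGroup.mk_mul, mk_eq_iff hF]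
  exact X_mul φ hx hy

theorem θ_inj {x y : ℕ} (hx : x < 576) (hy : y < 576) (h : θ φ x = θ φ y) : x = y := by
  rw [θ_eq φ hx, θ_eq φ hy, mk_eq_iff hF] at h
  exact X_pm_inj φ hx hy h

theorem mem_centralizer_iff (hφ : Function.Surjective φ) (g : Cfsg.PSp 2 F) :
    g * θ φ 24 = θ φ 24 * g ↔ ∃ x < 576, θ φ x = g := by
  constructor
  swap
  · rintro ⟨x, hx, rfl⟩
    rw [← θ_mul φ hF hx (by norm_num), ← θ_mul φ hF (by norm_num) hx]
    congr 1
    have h : ∀ x < 576, mul x 24 = mul 24 x := by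
      intro x hx
      have := all576_spec (p := fun x => comm x 24) (by decide +kernel) x hx
      simpa [comm] using this
    exact h x hx
  obtain ⟨A, rfl⟩ := QuotientGroup.mk_surjective g
  intro h
  rw [θ_eq φ (by norm_num : 24 < 576), ← QuotientGroup.mk_mul, ← QuotientGroup.mk_mul,
    mk_eq_iff hF] at h
  have h2 : (2 : F) ≠ 0 := by
    rw [← map_ofNat φ, Ne, map_eq_zero_iff φ φ.injective]
    decide
  let ε : Fin 2 → F := ![1, -1]
  have hT : ∀ p q, X φ 24 p q = if p = q then ε (plane p) else 0 := by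
    intro p q
    simp only [X, pairMat, blk, Matrix.of_apply]
    rcases p with p | p <;> rcases q with q | q <;> fin_cases p <;> fin_cases q <;>
      simp [plane, side, ε, m2_one, m2_twelve]
  have hTm : ∀ p q, (A.1 * X φ 24) p q = A.1 p q * ε (plane q) ∧
      (X φ 24 * A.1) p q = ε (plane p) * A.1 p q := fun p q => by
    simp [Matrix.mul_apply, hT]
  obtain ⟨s, hzero⟩ : ∃ s : Fin 2, ∀ p q, plane q ≠ plane p + s → A.1 p q = 0 := by
    rcases h with h | h
    · refine ⟨0, fun p q hne => ?_⟩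
      have e := congrFun (congrFun h p) q
      rw [Submonoid.coe_mul, Submonoid.coe_mul] at e
      change (A.1 * X φ 24) p q = (X φ 24 * A.1) p q at e
      rw [(hTm p q).1, (hTm p q).2] at e
      rcases p with p | p <;> rcases q with q | q <;> fin_cases p <;> fin_cases q <;>
        simp [plane, ε] at hne e ⊢ <;>
        first
          | exact (mul_eq_zero.1 (by linear_combination e : (2 : F) * _ = 0)).resolve_left h2
          | exact (mul_eq_zero.1 (by linear_combination -e : (2 : F) * _ = 0)).resolve_left h2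
    · refine ⟨1, fun p q hne => ?_⟩
      have e := congrFun (congrFun h p) q
      change (A.1 * X φ 24) p q = (-(X φ 24 * A.1)) p q at e
      rw [Matrix.neg_apply, (hTm p q).1, (hTm p q).2] at e
      rcases p with p | p <;> rcases q with q | q <;> fin_cases p <;> fin_cases q <;>
        simp [plane, ε] at hne e ⊢ <;>
        first
          | exact (mul_eq_zero.1 (by linear_combination e : (2 : F) * _ = 0)).resolve_left h2
          | exact (mul_eq_zero.1 (by linear_combination -e : (2 : F) * _ = 0)).resolve_left h2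
  let m : Fin 2 → Matrix (Fin 2) (Fin 2) F := fun i =>
    Matrix.of fun k l => A.1 (coord i k) (coord (i + s) l)
  have hA : A.1 = blk m s := by
    ext p q
    simp only [blk, Matrix.of_apply, m]
    by_cases hpq : plane q = plane p + s
    · rw [if_pos hpq, ← hpq, coord_plane_side, coord_plane_side]
    · rw [if_neg hpq, hzero p q hpq]
  have hdet := (blk_mem_iff m s).1 (hA ▸ A.2)
  have hidx : ∀ i, ∃ a < 24, (m2 a).map φ = m i := by
    intro i
    obtain ⟨p, hp⟩ := hφ (m i 0 0)
    obtain ⟨q, hq⟩ := hφ (m i 0 1)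
    obtain ⟨r, hr⟩ := hφ (m i 1 0)
    obtain ⟨u, hu⟩ := hφ (m i 1 1)
    obtain ⟨a, ha, e1, e2, e3, e4⟩ := m2_surj p q r u (φ.injective (by
      rw [map_sub, map_mul, map_mul, hp, hq, hr, hu, map_one]
      exact hdet i))
    refine ⟨a, ha, ?_⟩
    ext k l
    fin_cases k <;> fin_cases l <;> simp [e1, e2, e3, e4, hp, hq, hr, hu]
  obtain ⟨a, ha, hma⟩ := hidx 0
  obtain ⟨b, hb, hmb⟩ := hidx 1
  have hm : m = ![(m2 a).map φ, (m2 b).map φ] := by
    ext i
    fin_cases i <;> simp [hma, hmb]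
  refine ⟨enc a b s.1, enc_lt ha hb _, ?_⟩
  rw [θ_eq φ (enc_lt ha hb _), mk_eq_iff hF, hA, hm]
  have := X_enc φ ha hb s.1
  rwa [show (⟨s.1 % 2, Nat.mod_lt _ (by norm_num)⟩ : Fin 2) = s from Fin.ext (Nat.mod_eq_of_lt s.2)]
    at this

/-- The model is the centraliser of `θ 24`. -/
noncomputable def pspCent (hφ : Function.Surjective φ) : Cent (Cfsg.PSp 2 F) (θ φ 24) where
  f := θ φ
  hmul := θ_mul φ hF
  hinj := θ_inj φ hF
  mem_iff := mem_centralizer_iff φ hF hφ
  f_t := rfl

end Cfsg.Agent.PSpCent
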