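import Cfsg.Agent.Lib.PSpCent.Embed
import Cfsg.Agent.Lib.PSpCent.PSpModel
import Cfsg.Agent.Lib.ClassicalSimple.SympMatrix

/-!
# Characterisation of PSp₄(3) by the centraliser of a central involution
-/

set_option autoImplicit false
set_option linter.style.haveILetI false

namespace Cfsg.Agent.PSpCent

open Cfsg

/-- Two subgroups of order 25920 of the graph's automorphism group, without subgroups of index two,
coincide. -/
theorem range_unique {A B : Subgroup (Equiv.Perm (Fin 27))} (hA : A ≤ modelAut) (hB : B ≤ modelAut)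
    (cA : Nat.card A = 25920) (cB : Nat.card B = 25920)
    (hB2 : ∀ H : Subgroup ↥B, H.index ≠ 2) : A = B := by
  have h1 := Subgroup.card_mul_index (A.subgroupOf modelAut)
  rw [Nat.card_congr (Subgroup.subgroupOfEquivOfLe hA).toEquiv, cA] at h1
  have hidx : A.relIndex modelAut ≤ 2 := by
    have h2 := card_modelAut
    rw [← h1] at h2
    change (A.subgroupOf modelAut).index ≤ 2
    omega
  have hne : A.relIndex modelAut ≠ 0 := by
    intro h
    have : 0 < Nat.card modelAut := Nat.card_pos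
    rw [← h1, show (A.subgroupOf modelAut).index = 0 from h] at this
    simp at this
  have hle : A.relIndex B ≤ 2 := (Subgroup.relIndex_le_of_le_right hB hne).trans hidx
  have hne' : A.relIndex B ≠ 0 := Subgroup.index_ne_zero_of_finite
  have hBA : B ≤ A := by
    rcases (show A.relIndex B = 1 ∨ A.relIndex B = 2 by omega) with h | h
    · exact Subgroup.relIndex_eq_one.1 h
    · exact absurd h (hB2 (A.subgroupOf B))
  exact (Subgroup.eq_of_le_of_card_ge hBA (by rw [cA, cB])).symm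

variable {F : Type*} [Field F] [Fintype F]

theorem exists_psp_cent (hF : Fintype.card F = 3) (U : Sylow 2 (Cfsg.PSp 2 F)) (t₀ : Cfsg.PSp 2 F)
    (ht₀ : orderOf t₀ = 2) (ht₀U : t₀ ∈ (U : Subgroup (Cfsg.PSp 2 F)))
    (ht₀c : ∀ u ∈ (U : Subgroup (Cfsg.PSp 2 F)), u * t₀ = t₀ * u) :
    Nonempty (Cent (Cfsg.PSp 2 F) t₀) := by
  classical
  haveI : Fact (Nat.Prime 3) := ⟨Nat.prime_three⟩
  haveI : CharP F 3 := (CharP.charP_iff_prime_eq_zero Nat.prime_three).2 (by
    rw [← hF]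
    exact FiniteField.cast_card_eq_zero F)
  let φ : ZMod 3 →+* F := (ZMod.ringEquiv F hF).toRingHom
  let K₀ := pspCent φ hF (ZMod.ringEquiv F hF).surjective
  haveI : Fact (Nat.Prime 2) := ⟨Nat.prime_two⟩
  obtain ⟨P, hP⟩ := K₀.exists_sylow
  obtain ⟨g, hg⟩ := MulAction.exists_smul_eq (Cfsg.PSp 2 F) P U
  have hU : ∀ x, x ∈ (U : Subgroup (Cfsg.PSp 2 F)) ↔ g⁻¹ * x * g ∈ K₀.S := by
    intro x
    rw [← hg, Sylow.coe_subgroup_smul, hP, Subgroup.mem_pointwise_smul_iff_inv_smul_mem]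
    simp [MulAut.smul_def, MulAut.conj_apply, mul_assoc]
  have ho : orderOf (g⁻¹ * t₀ * g) = 2 := by
    rw [show g⁻¹ * t₀ * g = MulAut.conj g⁻¹ t₀ by simp [MulAut.conj_apply],
      (MulAut.conj g⁻¹).orderOf_eq, ht₀]
  have heq : g⁻¹ * t₀ * g = θ φ 24 := by
    refine (K₀.S_centre ((hU t₀).1 ht₀U) fun s hs => ?_).resolve_left fun h => ?_
    · have h1 := ht₀c (g * s * g⁻¹) ((hU _).2 (by simpa [mul_assoc] using hs))
      calc s * (g⁻¹ * t₀ * g) = g⁻¹ * (g * s * g⁻¹ * t₀) * g := by group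
        _ = g⁻¹ * (t₀ * (g * s * g⁻¹)) * g := by rw [h1]
        _ = g⁻¹ * t₀ * g * s := by group
    · rw [h, orderOf_one] at ho
      norm_num at ho
  refine ⟨{
    f := fun x => g * K₀.f x * g⁻¹
    hmul := fun {x y} hx hy => by rw [K₀.hmul hx hy]; group
    hinj := fun {x y} hx hy h => K₀.hinj hx hy (mul_left_cancel (mul_right_cancel h))
    mem_iff := fun a => ?_
    f_t := ?_ }⟩
  · constructor
    · intro ha
      obtain ⟨x, hx, he⟩ := (K₀.mem_iff (g⁻¹ * a * g)).1 (by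
        rw [← heq]
        calc g⁻¹ * a * g * (g⁻¹ * t₀ * g) = g⁻¹ * (a * t₀) * g := by group
          _ = g⁻¹ * (t₀ * a) * g := by rw [ha]
          _ = g⁻¹ * t₀ * g * (g⁻¹ * a * g) := by group)
      exact ⟨x, hx, by rw [he]; group⟩
    · rintro ⟨x, hx, rfl⟩
      have h : K₀.f x * (g⁻¹ * t₀ * g) = g⁻¹ * t₀ * g * K₀.f x :=
        (congrArg (K₀.f x * ·) heq).trans ((K₀.f_mem hx).trans (congrArg (· * K₀.f x) heq.symm))
      calc g * K₀.f x * g⁻¹ * t₀ = g * (K₀.f x * (g⁻¹ * t₀ * g)) * g⁻¹ := by group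
        _ = g * (g⁻¹ * t₀ * g * K₀.f x) * g⁻¹ := by rw [h]
        _ = t₀ * (g * K₀.f x * g⁻¹) := by group
  · rw [K₀.f_t, ← heq]
    group

/-- Transport of the model along an isomorphism of centralisers. -/
theorem exists_cent_of_equiv {G H : Type*} [Group G] [Group H] {t : G} {t₀ : H}
    (K₁ : Cent H t₀) (ht : orderOf t = 2)
    (e : ↥(Subgroup.centralizer ({t} : Set G)) ≃* ↥(Subgroup.centralizer ({t₀} : Set H))) :
    Nonempty (Cent G t) := by
  classical
  let C₀ := Subgroup.centralizer ({t₀} : Set H)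
  have memC : ∀ x, x < 576 → K₁.f x ∈ C₀ := fun x hx =>
    Subgroup.mem_centralizer_singleton_iff.2 (K₁.f_mem hx)
  let f : ℕ → G := fun x => if h : x < 576 then (e.symm ⟨K₁.f x, memC x h⟩ : G) else 1
  have hf : ∀ x (h : x < 576), f x = (e.symm ⟨K₁.f x, memC x h⟩ : G) := fun x h => dif_pos h
  have htC : t ∈ Subgroup.centralizer ({t} : Set G) := Subgroup.mem_centralizer_singleton_iff.2 rfl
  have hft : f 24 = t := by
    obtain ⟨x, hx, hxe⟩ := (K₁.mem_iff (e ⟨t, htC⟩ : H)).1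
      (Subgroup.mem_centralizer_singleton_iff.1 (e ⟨t, htC⟩).2)
    have hc := all576_spec chk_centre x hx
    simp only [Bool.or_eq_true, beq_iff_eq, List.any_eq_true] at hc
    rcases hc with (rfl | rfl) | ⟨y, hy, hxy⟩
    · exfalso
      have h1 : e ⟨t, htC⟩ = 1 := Subtype.ext (hxe.symm.trans K₁.f_zero)
      rw [MulEquiv.map_eq_one_iff] at h1
      rw [show t = 1 from congrArg Subtype.val h1, orderOf_one] at ht
      norm_num at ht
    · rw [hf 24 hx, show (⟨K₁.f 24, memC 24 hx⟩ : C₀) = e ⟨t, htC⟩ from Subtype.ext hxe,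
        e.symm_apply_apply]
    · exfalso
      have hy' := lt_of_invols hy
      obtain ⟨u, hu⟩ := e.surjective ⟨K₁.f y, memC y hy'⟩
      have hcomm : (⟨t, htC⟩ : Subgroup.centralizer ({t} : Set G)) * u = u * ⟨t, htC⟩ :=
        Subtype.ext (Subgroup.mem_centralizer_singleton_iff.1 u.2).symm
      have h := congrArg (fun a => ((e a : C₀) : H)) hcomm
      simp only [map_mul, Subgroup.coe_mul, hu] at h
      rw [← hxe] at h
      rw [(K₁.comm_iff hx hy').1 h] at hxy
      simp at hxy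
  refine ⟨{ f := f, hmul := fun {x y} hx hy => ?_, hinj := fun {x y} hx hy h => ?_,
            mem_iff := fun a => ?_, f_t := hft }⟩
  · rw [hf _ (mul_lt x y), hf x hx, hf y hy, ← Subgroup.coe_mul, ← map_mul]
    exact congrArg (fun z => ((e.symm z : Subgroup.centralizer ({t} : Set G)) : G))
      (Subtype.ext (K₁.hmul hx hy))
  · rw [hf x hx, hf y hy] at h
    exact K₁.hinj hx hy (congrArg Subtype.val (e.symm.injective (Subtype.ext h)) :)
  · constructor
    · intro ha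
      have haC : a ∈ Subgroup.centralizer ({t} : Set G) :=
        Subgroup.mem_centralizer_singleton_iff.2 ha
      obtain ⟨x, hx, hxe⟩ := (K₁.mem_iff (e ⟨a, haC⟩ : H)).1
        (Subgroup.mem_centralizer_singleton_iff.1 (e ⟨a, haC⟩).2)
      refine ⟨x, hx, ?_⟩
      rw [hf x hx, show (⟨K₁.f x, memC x hx⟩ : C₀) = e ⟨a, haC⟩ from Subtype.ext hxe,
        e.symm_apply_apply]
    · rintro ⟨x, hx, rfl⟩
      rw [hf x hx]
      exact Subgroup.mem_centralizer_singleton_iff.1 (e.symm ⟨K₁.f x, memC x hx⟩).2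

theorem main {G : Type*} [Group G] [Finite G] (hG : ∀ H : Subgroup G, H.index ≠ 2)
    (hF : Fintype.card F = 3) (U : Sylow 2 (Cfsg.PSp 2 F)) (t₀ : Cfsg.PSp 2 F)
    (ht₀ : orderOf t₀ = 2) (ht₀U : t₀ ∈ (U : Subgroup (Cfsg.PSp 2 F)))
    (ht₀c : ∀ u ∈ (U : Subgroup (Cfsg.PSp 2 F)), u * t₀ = t₀ * u) (t : G) (ht : orderOf t = 2)
    (e : ↥(Subgroup.centralizer ({t} : Set G)) ≃* ↥(Subgroup.centralizer ({t₀} : Set (Cfsg.PSp 2 F)))) :
    Nonempty (G ≃* Cfsg.PSp 2 F) := by
  classical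
  haveI hS : IsSimpleGroup (Cfsg.PSp 2 F) :=
    ClassicalSimple.PSp_isSimpleGroup (by norm_num) (Or.inr (Or.inl ⟨rfl, hF.ge⟩))
  obtain ⟨K₁⟩ := exists_psp_cent hF U t₀ ht₀ ht₀U ht₀c
  have hP2 : ∀ H : Subgroup (Cfsg.PSp 2 F), H.index ≠ 2 := by
    intro H hH
    haveI : H.Normal := Subgroup.normal_of_index_eq_two hH
    rcases hS.eq_bot_or_eq_top_of_normal H inferInstance with h | h
    · have h2 := Subgroup.card_mul_index H
      have h576 := Subgroup.card_le_card_group (Subgroup.centralizer ({t₀} : Set (Cfsg.PSp 2 F)))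
      rw [h, Subgroup.card_bot, ← h, hH] at h2
      rw [K₁.card_cent, ← h2] at h576
      omega
    · rw [h, Subgroup.index_top] at hH
      omega
  obtain ⟨K₂, hK₂⟩ := K₁.exists_good hP2
  obtain ⟨K₃⟩ := exists_cent_of_equiv K₁ ht e
  obtain ⟨K₄, hK₄⟩ := K₃.exists_good hG
  obtain ⟨σ, hσ, hσr⟩ := K₂.exists_embedding hK₂
  obtain ⟨ρ, hρ, hρr⟩ := K₄.exists_embedding hK₄
  have hrange : ρ.range = σ.range := by
    refine range_unique hρr hσr ?_ ?_ fun H hH => ?_
    · rw [← Nat.card_congr (MonoidHom.ofInjective hρ).toEquiv, K₄.card_eq hK₄]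
    · rw [← Nat.card_congr (MonoidHom.ofInjective hσ).toEquiv, K₂.card_eq hK₂]
    · refine hP2 (H.comap (MonoidHom.ofInjective hσ).toMonoidHom) ?_
      exact (Subgroup.index_comap_of_surjective H (MonoidHom.ofInjective hσ).surjective).trans hH
  exact ⟨((MonoidHom.ofInjective hρ).trans (MulEquiv.subgroupCongr hrange)).trans
    (MonoidHom.ofInjective hσ).symm⟩

end Cfsg.Agent.PSpCent
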