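import Cfsg.Agent.Lib.PSpCent.Table
import Mathlib.Algebra.Group.Subgroup.Basic
import Mathlib.Data.Fintype.CardEmbedding
import Mathlib.Data.Fintype.Perm
import Mathlib.GroupTheory.Perm.Basic
import Mathlib.SetTheory.Cardinal.Finite

/-!
# The graph on 27 vertices and the order of its automorphism group
-/

set_option autoImplicit false
set_option maxRecDepth 100000

namespace Cfsg.Agent.PSpCent

/-- Parity of a four-bit number. -/
def par (v : ℕ) : Bool := ((v ^^^ (v >>> 1) ^^^ (v >>> 2) ^^^ (v >>> 3)) &&& 1) == 1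

def phi (i v : ℕ) : Bool := par (if i < 4 then v &&& (15 ^^^ (1 <<< i)) else v)

/-- Vertex `0`, vertices `1 + 2i + b`, vertices `11 + v`. -/
def madj (a b : ℕ) : Bool :=
  if a == 0 then (decide (1 ≤ b) && decide (b ≤ 10))
  else if b == 0 then decide (a ≤ 10)
  else if a ≤ 10 then
    (if b ≤ 10 then ((a - 1) / 2 == (b - 1) / 2 && a != b)
     else ((a - 1) % 2 == 1) == phi ((a - 1) / 2) (b - 11))
  else
    (if b ≤ 10 then ((b - 1) % 2 == 1) == phi ((b - 1) / 2) (a - 11)
     else ([1, 2, 4, 8, 15] : List ℕ).contains ((a - 11) ^^^ (b - 11)))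

/-- The automorphism group of the graph. -/
def modelAut : Subgroup (Equiv.Perm (Fin 27)) where
  carrier := {σ | ∀ a b : Fin 27, madj (σ a) (σ b) = madj a b}
  one_mem' := fun _ _ => rfl
  mul_mem' {σ τ} hσ hτ a b := (hσ (τ a) (τ b)).trans (hτ a b)
  inv_mem' {σ} hσ a b := by
    have h := hσ (σ⁻¹ a) (σ⁻¹ b)
    simp only [Equiv.Perm.coe_inv, Equiv.apply_symm_apply] at h
    exact h.symm

def nonn (a : Fin 27) : List (Fin 27) :=
  (List.finRange 27).filter fun b => b != a && !madj a b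

def fv (a b : Fin 27) : List (Fin 27) :=
  (List.finRange 27).filter fun c => madj b c && !madj a c

def fiveV : List (Fin 27) := [12, 13, 15, 19, 26]

def fixBase : List (Fin 27) := [0, 11, 12, 13, 15, 19, 26]

/-- Vertices whose adjacencies to `S` determine them. -/
def uniq (S : List (Fin 27)) : List (Fin 27) :=
  (List.finRange 27).filter fun a =>
    (List.finRange 27).all fun c => c == a || S.any fun s => madj s c != madj s a

theorem chk_fix : uniq (uniq fixBase) = List.finRange 27 := by decide +kernel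

theorem chk_nonn : ∀ a, (nonn a).length ≤ 16 := by decide +kernel

theorem chk_fv : ∀ a, ∀ b ∈ nonn a, (fv a b).length ≤ 5 := by decide +kernel

theorem chk_fiveV : (∀ i : Fin 5, madj 11 (fiveV.getD i 0) = true ∧ madj 0 (fiveV.getD i 0) = false) ∧
    madj 0 11 = false ∧ (fiveV.length = 5) ∧ fiveV.Nodup := by decide +kernel

theorem fixed_uniq {σ : Equiv.Perm (Fin 27)} (hσ : σ ∈ modelAut) {S : List (Fin 27)}
    (hS : ∀ a ∈ S, σ a = a) {a : Fin 27} (ha : a ∈ uniq S) : σ a = a := by
  simp only [uniq, List.mem_filter, List.all_eq_true, Bool.or_eq_true, beq_iff_eq,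
    List.any_eq_true, bne_iff_ne] at ha
  rcases ha.2 (σ a) (List.mem_finRange _) with h | ⟨s, hs, h⟩
  · exact h
  · exact absurd (by rw [← hσ s a, hS s hs]) h

theorem eq_one_of_fix {σ : Equiv.Perm (Fin 27)} (hσ : σ ∈ modelAut)
    (hS : ∀ a ∈ fixBase, σ a = a) : σ = 1 := by
  refine Equiv.ext fun a => ?_
  refine fixed_uniq hσ (fun b hb => fixed_uniq hσ hS hb) ?_
  rw [chk_fix]
  exact List.mem_finRange _

theorem card_modelAut : Nat.card modelAut ≤ 51840 := by
  classical
  have h11 : ∀ σ : modelAut, σ.1 11 ∈ nonn (σ.1 0) := fun σ => by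
    simp only [nonn, List.mem_filter, List.mem_finRange, true_and, Bool.and_eq_true, bne_iff_ne,
      Bool.not_eq_true']
    refine ⟨fun h => absurd (σ.1.injective h) (by decide), ?_⟩
    exact (σ.2 0 11).trans chk_fiveV.2.1
  have hfive : ∀ (σ : modelAut) (i : Fin 5),
      σ.1 (fiveV.getD i 0) ∈ fv (σ.1 0) (σ.1 11) := fun σ i => by
    simp only [fv, List.mem_filter, List.mem_finRange, true_and, Bool.and_eq_true,
      Bool.not_eq_true']
    exact ⟨(σ.2 _ _).trans (chk_fiveV.1 i).1, (σ.2 _ _).trans (chk_fiveV.1 i).2⟩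
  let F : modelAut → Fin 27 × Fin 16 × (Fin 5 ↪ Fin 5) := fun σ =>
    (σ.1 0, ⟨(nonn (σ.1 0)).idxOf (σ.1 11),
      (List.idxOf_lt_length_iff.2 (h11 σ)).trans_le (chk_nonn _)⟩,
     ⟨fun i => ⟨(fv (σ.1 0) (σ.1 11)).idxOf (σ.1 (fiveV.getD i 0)),
      (List.idxOf_lt_length_iff.2 (hfive σ i)).trans_le (chk_fv _ _ (h11 σ))⟩, fun i j h => by
        have h1 := (List.idxOf_inj (hfive σ i)).1 (congrArg Fin.val h)
        have h2 := σ.1.injective h1
        have hinj : ∀ i j : Fin 5, fiveV.getD i 0 = fiveV.getD j 0 → i = j := by decide +kernel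
        exact hinj i j h2⟩)
  have hF : Function.Injective F := by
    intro σ τ h
    have h0 : σ.1 0 = τ.1 0 := congrArg Prod.fst h
    have h1 : σ.1 11 = τ.1 11 := by
      have e : (nonn (σ.1 0)).idxOf (σ.1 11) = (nonn (τ.1 0)).idxOf (τ.1 11) :=
        congrArg (fun x => (Prod.fst (Prod.snd x)).val) h
      rw [← h0] at e
      exact (List.idxOf_inj (h11 σ)).1 e
    have h5 : ∀ i : Fin 5, σ.1 (fiveV.getD i 0) = τ.1 (fiveV.getD i 0) := fun i => by
      have e : (fv (σ.1 0) (σ.1 11)).idxOf (σ.1 (fiveV.getD i 0)) =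
          (fv (τ.1 0) (τ.1 11)).idxOf (τ.1 (fiveV.getD i 0)) :=
        congrArg (fun x => ((Prod.snd (Prod.snd x)) i).val) h
      rw [← h0, ← h1] at e
      exact (List.idxOf_inj (hfive σ i)).1 e
    have hS : ∀ a ∈ fixBase, (τ⁻¹ * σ).1 a = a := by
      intro a ha
      show τ.1⁻¹ (σ.1 a) = a
      rw [Equiv.Perm.coe_inv, Equiv.symm_apply_eq]
      simp only [fixBase, List.mem_cons, List.not_mem_nil, or_false] at ha
      rcases ha with rfl | rfl | rfl | rfl | rfl | rfl | rfl
      exacts [h0, h1, h5 0, h5 1, h5 2, h5 3, h5 4]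
    exact (inv_mul_eq_one.1 (Subtype.ext (eq_one_of_fix (τ⁻¹ * σ).2 hS))).symm
  refine (Nat.card_le_card_of_injective F hF).trans ?_
  simp [Nat.card_prod, Nat.card_eq_fintype_card, Fintype.card_embedding_eq, Nat.descFactorial]

end Cfsg.Agent.PSpCent
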