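import Cfsg.Agent.Lib.PSpCent.Good
import Cfsg.Agent.Lib.Involution.BrauerFowler
import Mathlib.GroupTheory.Perm.Cycle.Type

/-!
# The normaliser of `E`
-/

set_option autoImplicit false
set_option linter.style.haveILetI false

namespace Cfsg.Agent.PSpCent

open Cfsg

theorem chk_five : ∀ x ∈ e0List, ((kind x = 1 ∨ kind x = 4) ↔ x ∈ five) := by decide +kernel

theorem chk_five_sub : ∀ x ∈ five, x ∈ e0List ∧ x ∈ invols := by decide +kernel

theorem chk_four : ∀ x ∈ five, x ≠ 24 → x ∈ ([1, 75, 375, 575] : List ℕ) := by decide +kernel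

theorem chk_pair_prod : ∀ x ∈ e0List, (kind x = 2 ∨ kind x = 3) →
    ∃ a ∈ five, ∃ b ∈ five, a ≠ b ∧ mul a b = x := by decide +kernel

theorem chk_comm_one : ∀ y ∈ invols, comm 1 y = true → y ∈ e0List := by decide +kernel

namespace Cent

variable {G : Type*} [Group G] {t : G} (K : Cent G t) (hK : Good K)

include hK

theorem isConj_code {x : ℕ} (hx : x ∈ invols) :
    (IsConj t (K.f x) ↔ kind x = 1 ∨ kind x = 4) ∧
      (IsConj (K.f 25) (K.f x) ↔ kind x = 2 ∨ kind x = 3) := by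
  have h := K.isConj_rep hx
  have hx' := lt_of_invols hx
  have hk := kind_le hx'
  have hk0 := (mem_invols hx').1 hx
  rcases (show kind x = 1 ∨ kind x = 2 ∨ kind x = 3 ∨ kind x = 4 by omega) with h' | h' | h' | h' <;>
    rw [h'] at h ⊢
  · exact ⟨iff_of_true (hK.one_conj.symm.trans h) (by norm_num),
      iff_of_false (fun c => hK.not_two ((c.trans h.symm).trans hK.one_conj)) (by norm_num)⟩
  · exact ⟨iff_of_false (fun c => hK.not_two (h.trans c.symm)) (by norm_num),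
      iff_of_true h (by norm_num)⟩
  · exact ⟨iff_of_false (fun c => hK.not_three (h.trans c.symm)) (by norm_num),
      iff_of_true (hK.two_three.trans h) (by norm_num)⟩
  · rw [show rep 4 = 24 by decide +kernel, K.f_t] at h
    exact ⟨iff_of_true h (by norm_num), iff_of_false (fun c => hK.not_two (c.trans h.symm)) (by norm_num)⟩

theorem not_both_types {w : G} (h : IsConj t w) (h' : IsConj (K.f 25) w) : False :=
  hK.not_two (h'.trans h.symm)

theorem invol_cases [Finite G] {w : G} (hw : orderOf w = 2) :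
    IsConj t w ∨ IsConj (K.f 25) w := by
  obtain ⟨x, hx, hc⟩ := K.exists_conj_invol hw
  have hk := kind_le (lt_of_invols hx)
  have hk0 := (mem_invols (lt_of_invols hx)).1 hx
  obtain ⟨h1, h2⟩ := K.isConj_code hK hx
  rcases (show (kind x = 1 ∨ kind x = 4) ∨ (kind x = 2 ∨ kind x = 3) by omega) with h' | h'
  · exact Or.inl ((h1.2 h').trans hc)
  · exact Or.inr ((h2.2 h').trans hc)

/-- The members of `E` conjugate to `t`. -/
theorem tType_E {a : G} : (a ∈ K.E ∧ IsConj t a) ↔ ∃ x ∈ five, K.f x = a := by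
  constructor
  · rintro ⟨⟨x, hx, rfl⟩, hc⟩
    rcases mem_invols_of_e0 x hx with rfl | hxi
    · rw [K.f_zero, isConj_one_left] at hc
      exact absurd hc (fun e => by simpa [e] using K.t_order)
    · exact ⟨x, (chk_five x hx).1 ((K.isConj_code hK hxi).1.1 hc), rfl⟩
  · rintro ⟨x, hx, rfl⟩
    obtain ⟨hx0, hxi⟩ := chk_five_sub x hx
    exact ⟨⟨x, hx0, rfl⟩, (K.isConj_code hK hxi).1.2 ((chk_five x hx0).2 hx)⟩

theorem card_tType_E : Nat.card {a : G // a ∈ K.E ∧ IsConj t a} = 5 := by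
  classical
  have hset : {a : G | a ∈ K.E ∧ IsConj t a} = ↑(five.toFinset.image K.f) := by
    ext a
    simp only [Set.mem_ofPred_eq, Finset.coe_image, List.coe_toFinset, Set.mem_image]
    exact K.tType_E hK
  calc Nat.card {a : G // a ∈ K.E ∧ IsConj t a} = ({a : G | a ∈ K.E ∧ IsConj t a}).ncard :=
        Nat.card_coe_set_eq _
    _ = (five.toFinset.image K.f).card := by rw [hset, Set.ncard_coe_finset]
    _ = five.toFinset.card := Finset.card_image_of_injOn (fun a ha b hb h => by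
        simp only [Finset.mem_coe, List.mem_toFinset] at ha hb
        exact K.hinj (lt_of_e0 (chk_five_sub a ha).1) (lt_of_e0 (chk_five_sub b hb).1) h)
    _ = 5 := by decide +kernel

/-- `N(E)` is 2-transitive on the five. -/
theorem pair_move [Finite G] {a b : G} (ha : a ∈ K.E) (hb : b ∈ K.E) (ha' : IsConj t a)
    (hb' : IsConj t b) (hne : a ≠ b) :
    ∃ n ∈ K.N, n * a * n⁻¹ = t ∧ n * b * n⁻¹ = K.f 1 := by
  obtain ⟨n, hn, hna⟩ := K.exists_norm ha ha'.symm
  have hbE := K.mem_N.1 hn b hb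
  obtain ⟨y, hy, hye⟩ := (K.tType_E hK).1 ⟨hbE, hb'.trans (isConj_iff.2 ⟨n, rfl⟩)⟩
  have hy24 : y ≠ 24 := by
    rintro rfl
    exact hne (mul_left_cancel (mul_right_cancel ((hna.trans K.f_t.symm).trans hye)))
  have hw := chk_trWit
  simp only [List.all_eq_true, Bool.and_eq_true, beq_iff_eq, decide_eq_true_eq] at hw
  obtain ⟨⟨hw1, hwn⟩, hwlt⟩ := hw y (chk_four y hy hy24)
  refine ⟨K.f (trWit y) * n, mul_mem (K.f_mem_N hwlt hwn) hn, ?_, ?_⟩
  · calc K.f (trWit y) * n * a * (K.f (trWit y) * n)⁻¹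
        = K.f (trWit y) * (n * a * n⁻¹) * (K.f (trWit y))⁻¹ := by group
      _ = t := by rw [hna, K.f_mem hwlt, mul_inv_cancel_right]
  · calc K.f (trWit y) * n * b * (K.f (trWit y) * n)⁻¹
        = K.f (trWit y) * (n * b * n⁻¹) * (K.f (trWit y))⁻¹ := by group
      _ = K.f 1 := by
        rw [← hye, ← K.f_conj hwlt (lt_of_e0 (chk_five_sub y hy).1), hw1]

omit hK in
/-- `E` is its own centraliser. -/
theorem cent_E {g : G} (h : ∀ v ∈ K.E, g * v = v * g) : g ∈ K.E := by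
  obtain ⟨x, hx, rfl⟩ := (K.mem_iff g).1 (h t K.t_mem_E)
  have hc := all576_spec chk_cent_e0 x hx
  simp only [Bool.or_eq_true, List.contains_iff_mem, List.any_eq_true] at hc
  rcases hc with hc | ⟨v, hv, hxv⟩
  · exact ⟨x, hc, rfl⟩
  · rw [(K.comm_iff hx (lt_of_e0 hv)).1 (h _ ⟨v, hv, rfl⟩)] at hxv
    simp at hxv

omit hK in
theorem nrm_of_mem_N [Finite G] {c : ℕ} (hc : c < 576) (h : K.f c ∈ K.N) : nrm c = true := by
  simp only [nrm, List.all_eq_true, List.contains_iff_mem]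
  intro v hv
  refine (K.f_mem_E (conj_lt _ _)).1 ?_
  rw [K.f_conj hc (lt_of_e0 hv)]
  exact K.mem_N.1 h _ ⟨v, hv, rfl⟩

theorem card_N [Finite G] : Nat.card K.N = 960 := by
  classical
  have htN : t ∈ K.N := Subgroup.le_normalizer K.t_mem_E
  have h1 : Nat.card (Subgroup.centralizer ({⟨t, htN⟩} : Set ↥K.N)) = 192 := by
    have hset : Subtype.val '' (Subgroup.centralizer ({⟨t, htN⟩} : Set ↥K.N) : Set ↥K.N) =
        ↑(((List.range 576).filter nrm).toFinset.image K.f) := by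
      ext g
      simp only [Finset.coe_image, List.coe_toFinset, Set.mem_image, Set.mem_ofPred_eq,
        List.mem_filter, List.mem_range, SetLike.mem_coe, Subgroup.mem_centralizer_singleton_iff]
      constructor
      · rintro ⟨n, hn, rfl⟩
        obtain ⟨c, hc, he⟩ := (K.mem_iff n.1).1 (by simpa using congrArg Subtype.val hn)
        exact ⟨c, ⟨hc, K.nrm_of_mem_N hc (he ▸ n.2)⟩, he⟩
      · rintro ⟨c, ⟨hc, hcn⟩, rfl⟩
        exact ⟨⟨_, K.f_mem_N hc hcn⟩, Subtype.ext (K.f_mem hc), rfl⟩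
    calc Nat.card (Subgroup.centralizer ({⟨t, htN⟩} : Set ↥K.N))
        = (Subtype.val '' (Subgroup.centralizer ({⟨t, htN⟩} : Set ↥K.N) : Set ↥K.N)).ncard := by
          rw [Set.ncard_image_of_injective _ Subtype.val_injective]
          exact Nat.card_coe_set_eq _
      _ = (((List.range 576).filter nrm).toFinset.image K.f).card := by
          rw [hset, Set.ncard_coe_finset]
      _ = ((List.range 576).filter nrm).toFinset.card :=
          Finset.card_image_of_injOn (fun a ha b hb h => by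
            simp only [Finset.mem_coe, List.mem_toFinset, List.mem_filter, List.mem_range] at ha hb
            exact K.hinj ha.1 hb.1 h)
      _ = 192 := by
          rw [List.toFinset_card_of_nodup (List.Nodup.filter _ List.nodup_range), chk_nrm_card]
  have h2 : Nat.card {u : ↥K.N // IsConj ⟨t, htN⟩ u} = 5 := by
    rw [← K.card_tType_E hK]
    refine Nat.card_congr (Equiv.ofBijective (fun u => ⟨u.1.1, ?_, ?_⟩) ⟨?_, ?_⟩)
    · obtain ⟨n, hn⟩ := isConj_iff.1 u.2
      rw [← hn]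
      exact K.mem_N.1 n.2 t K.t_mem_E
    · obtain ⟨n, hn⟩ := isConj_iff.1 u.2
      exact isConj_iff.2 ⟨n.1, congrArg Subtype.val hn⟩
    · intro u v h
      exact Subtype.ext (Subtype.ext (congrArg Subtype.val h :))
    · rintro ⟨a, ha, ha'⟩
      obtain ⟨n, hn, hna⟩ := K.exists_norm ha ha'.symm
      refine ⟨⟨⟨a, Subgroup.le_normalizer ha⟩, isConj_iff.2 ⟨⟨n, hn⟩⁻¹, ?_⟩⟩, rfl⟩
      refine Subtype.ext ?_
      show n⁻¹ * t * n⁻¹⁻¹ = a
      exact (congrArg (fun z => n⁻¹ * z * n⁻¹⁻¹) hna.symm).trans (by group)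
  rw [← Subgroup.card_mul_index (Subgroup.centralizer ({⟨t, htN⟩} : Set ↥K.N)),
    ← Involution.card_conjugates, h1, h2]

/-- Involutions of `N(E)` conjugate to `t` lie in `E`. -/
theorem tType_mem_E [Finite G] {u : G} (hu : u ∈ K.N) (hc : IsConj t u) : u ∈ K.E := by
  classical
  have hu2 : u * u = 1 := by
    obtain ⟨c, hc⟩ := isConj_iff.1 hc
    rw [← hc]
    calc c * t * c⁻¹ * (c * t * c⁻¹) = c * (t * t) * c⁻¹ := by group
      _ = 1 := by rw [K.E_sq K.t_mem_E]; group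
  let X := {a : G // a ∈ K.E ∧ IsConj t a}
  haveI : Fintype X := Fintype.ofFinite X
  let σ : Equiv.Perm X :=
    { toFun := fun a => ⟨u * a.1 * u⁻¹, K.mem_N.1 hu _ a.2.1, a.2.2.trans (isConj_iff.2 ⟨u, rfl⟩)⟩
      invFun := fun a => ⟨u * a.1 * u⁻¹, K.mem_N.1 hu _ a.2.1, a.2.2.trans (isConj_iff.2 ⟨u, rfl⟩)⟩
      left_inv := fun a => Subtype.ext (by
        show u * (u * a.1 * u⁻¹) * u⁻¹ = a.1
        calc u * (u * a.1 * u⁻¹) * u⁻¹ = (u * u) * a.1 * (u * u)⁻¹ := by group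
          _ = a.1 := by rw [hu2]; group)
      right_inv := fun a => Subtype.ext (by
        show u * (u * a.1 * u⁻¹) * u⁻¹ = a.1
        calc u * (u * a.1 * u⁻¹) * u⁻¹ = (u * u) * a.1 * (u * u)⁻¹ := by group
          _ = a.1 := by rw [hu2]; group) }
  haveI : Fact (Nat.Prime 2) := ⟨Nat.prime_two⟩
  have hσ : σ ^ 2 ^ 1 = 1 := by
    refine Equiv.ext fun a => ?_
    simp only [pow_one, pow_two, Equiv.Perm.mul_apply, Equiv.Perm.one_apply]
    exact σ.left_inv a
  have hcard : ¬ 2 ∣ Fintype.card X := by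
    rw [← Nat.card_eq_fintype_card, K.card_tType_E hK]
    norm_num
  obtain ⟨a, ha⟩ := Equiv.Perm.exists_fixed_point_of_prime hcard hσ
  have hfix : u * a.1 * u⁻¹ = a.1 := congrArg Subtype.val ha
  obtain ⟨n, hn, hna⟩ := K.exists_norm a.2.1 a.2.2.symm
  have hn' : n * u * n⁻¹ ∈ K.N := mul_mem (mul_mem hn hu) (inv_mem hn)
  have hcomm : n * u * n⁻¹ * t = t * (n * u * n⁻¹) := by
    calc n * u * n⁻¹ * t = n * u * n⁻¹ * (n * a.1 * n⁻¹) := congrArg (n * u * n⁻¹ * ·) hna.symm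
      _ = n * (u * a.1 * u⁻¹) * u * n⁻¹ := by group
      _ = n * a.1 * n⁻¹ * (n * u * n⁻¹) := by rw [hfix]; group
      _ = t * (n * u * n⁻¹) := congrArg (· * (n * u * n⁻¹)) hna
  obtain ⟨y, hy, hye⟩ := (K.mem_iff _).1 hcomm
  have hct : IsConj t (K.f y) := hye ▸ hc.trans (isConj_iff.2 ⟨n, rfl⟩)
  have hyi : y ∈ invols := (K.orderOf_f hy).1 (by
    obtain ⟨c, hc⟩ := isConj_iff.1 hct
    rw [← hc, ← MulAut.conj_apply, (MulAut.conj c).orderOf_eq, K.t_order])
  have hk := (K.isConj_code hK hyi).1.1 hct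
  have hy0 := all576_spec chk_nrm_t y hy
  simp only [Bool.or_eq_true, Bool.not_eq_true', List.contains_iff_mem] at hy0
  have hyN : nrm y = true := K.nrm_of_mem_N hy (hye ▸ hn')
  rcases hy0 with (h | h) | h
  · simp [hyN] at h
  · rcases hk with hk | hk <;> simp [hk] at h
  · have hE : n * u * n⁻¹ ∈ K.E := hye ▸ ⟨y, h, rfl⟩
    have := K.mem_N.1 (inv_mem hn) _ hE
    simpa [mul_assoc] using this

/-- An involution of `E` of the second type is a product of two of the five. -/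
theorem exists_pair {v : G} (hv : v ∈ K.E) (hc : IsConj (K.f 25) v) :
    ∃ a b : G, a ∈ K.E ∧ b ∈ K.E ∧ IsConj t a ∧ IsConj t b ∧ a ≠ b ∧ v = a * b := by
  obtain ⟨x, hx, rfl⟩ := hv
  rcases mem_invols_of_e0 x hx with rfl | hxi
  · have := orderOf_eq_one_iff.2 K.f_zero
    obtain ⟨c, hc⟩ := isConj_iff.1 hc
    rw [← hc, ← MulAut.conj_apply, (MulAut.conj c).orderOf_eq,
      (K.orderOf_f (by norm_num)).2 (by decide +kernel)] at this
    norm_num at this
  obtain ⟨a, ha, b, hb, hne, hab⟩ := chk_pair_prod x hx ((K.isConj_code hK hxi).2.1 hc)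
  obtain ⟨ha1, ha2⟩ := (K.tType_E hK).2 ⟨a, ha, rfl⟩
  obtain ⟨hb1, hb2⟩ := (K.tType_E hK).2 ⟨b, hb, rfl⟩
  have hla := lt_of_e0 (chk_five_sub a ha).1
  have hlb := lt_of_e0 (chk_five_sub b hb).1
  exact ⟨_, _, ha1, hb1, ha2, hb2, fun e => hne (K.hinj hla hlb e), by rw [← hab, K.hmul hla hlb]⟩

omit hK in
/-- An elementary group through `t` and `f 1` of order 16 is `E`. -/
theorem eq_E_of_mem [Finite G] {A : Subgroup G} (ht : t ∈ A) (h1 : K.f 1 ∈ A)
    (hc : ∀ a ∈ A, ∀ b ∈ A, a * b = b * a) (h2 : ∀ a ∈ A, a * a = 1) (hA : 16 ≤ Nat.card A) :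
    A = K.E := by
  refine Subgroup.eq_of_le_of_card_ge (fun a ha => ?_) (by rw [K.card_E]; exact hA)
  rcases eq_or_ne a 1 with rfl | hne
  · exact one_mem _
  obtain ⟨y, hy, rfl⟩ := K.exists_invol (hc a ha t ht)
    (orderOf_eq_prime (by rw [pow_two, h2 a ha]) hne)
  exact ⟨y, chk_comm_one y hy ((K.comm_iff (by norm_num) (lt_of_invols hy)).1 (hc _ h1 _ ha)), rfl⟩

end Cent

end Cfsg.Agent.PSpCent
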