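import Cfsg.Agent.Lib.PSpCent.CentE
import Cfsg.Agent.S0213

/-!
# The order
-/

set_option autoImplicit false
set_option linter.style.haveILetI false

namespace Cfsg.Agent.PSpCent

open Cfsg

theorem nodup_pairs : (tList.flatMap fun p => evList.map fun q => (p, q)).Nodup := by
  have h1 : tList.Nodup := by decide +kernel
  have h2 : evList.Nodup := by decide +kernel
  exact h1.product h2

theorem lt_of_tev : (∀ x ∈ tList, x < 576) ∧ ∀ x ∈ evList, x < 576 := by decide +kernel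

theorem chk_pair25 : ∀ a ∈ five, ∀ b ∈ five, mul a b = 25 → a ≠ b →
    (a = 24 ∧ b = 1) ∨ (a = 1 ∧ b = 24) := by decide +kernel

theorem chk_mul25 : ∀ j ∈ ([75, 375, 575] : List ℕ), kind (mul j 25) = 2 ∨ kind (mul j 25) = 3 := by
  decide +kernel

theorem five_rest : ∀ x ∈ five, x = 24 ∨ x = 1 ∨ x ∈ ([75, 375, 575] : List ℕ) := by decide +kernel

theorem chk_swap' : ∀ a ∈ ([1, 75, 375, 575] : List ℕ), ∀ b ∈ ([1, 75, 375, 575] : List ℕ), a ≠ b →
    ((invols.filter fun q => conj q a == b).length = 4) ∧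
      ∀ q ∈ invols, conj q a = b → ∀ c ∈ ([1, 75, 375, 575] : List ℕ), c = a ∨ c = b ∨ conj q c ≠ c := by
  intro a ha b hb hab
  have h := chk_swap
  simp only [List.all_eq_true, Bool.or_eq_true, Bool.and_eq_true, beq_iff_eq, Bool.not_eq_true',
    beq_eq_false_iff_ne, bne_iff_ne] at h
  obtain ⟨h1, h2⟩ := (h a ha b hb).resolve_left hab
  refine ⟨h1, fun q hq hqa c hc => ?_⟩
  rcases (h2 q hq).resolve_left (not_not.2 hqa) c hc with (h' | h') | h'
  · exact Or.inl h'
  · exact Or.inr (Or.inl h')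
  · exact Or.inr (Or.inr h')

theorem invols_nodup : invols.Nodup := by decide +kernel

theorem lt_of_invols' {x : ℕ} (hx : x ∈ ([1, 75, 375, 575] : List ℕ)) : x < 576 := by
  revert x
  decide +kernel

namespace Cent

variable {G : Type*} [Group G] {t : G} (K : Cent G t) (hK : Good K)

theorem conj_swap_of_invol {q a b : G} (hq : orderOf q = 2) (h : q * a * q⁻¹ = b) :
    q * b * q⁻¹ = a := by
  have hqq : q * q = 1 := by rw [← pow_two, ← hq, pow_orderOf_eq_one]
  rw [← h]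
  calc q * (q * a * q⁻¹) * q⁻¹ = (q * q) * a * (q * q)⁻¹ := by group
    _ = a := by rw [hqq]; group

theorem conj_eq_of_zpowers {p q w : G} (hp : p * p = 1) (hq : q * q = 1) (hw : w * w = 1)
    (h : w ∈ Subgroup.zpowers (p * q)) : p * w = w * p ∧ q * w = w * q := by
  obtain ⟨k, rfl⟩ := h
  have hpi : p⁻¹ = p := inv_eq_of_mul_eq_one_right hp
  have hqi : q⁻¹ = q := inv_eq_of_mul_eq_one_right hq
  have hinv : ((p * q) ^ k)⁻¹ = (p * q) ^ k := inv_eq_of_mul_eq_one_right hw
  have key : ∀ r, r * (p * q) * r⁻¹ = (p * q)⁻¹ → r * (p * q) ^ k = (p * q) ^ k * r := fun r hr => by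
    refine mul_inv_eq_iff_eq_mul.1 ?_
    rw [← MulAut.conj_apply, map_zpow, MulAut.conj_apply, hr, inv_zpow, hinv]
  refine ⟨key p ?_, key q ?_⟩
  · rw [mul_inv_rev, hpi, hqi, ← mul_assoc p p q, hp, one_mul]
  · rw [mul_inv_rev, hpi, hqi, mul_assoc q (p * q), mul_assoc p q q, hq, mul_one]

include hK

theorem sq_of_type {w : G} (h : IsConj t w ∨ IsConj (K.f 25) w) : orderOf w = 2 := by
  rcases h with h | h <;> obtain ⟨c, hc⟩ := isConj_iff.1 h <;>
    rw [← hc, ← MulAut.conj_apply, (MulAut.conj c).orderOf_eq]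
  · exact K.t_order
  · exact (K.orderOf_f (by norm_num)).2 (by decide +kernel)

theorem count_t [Finite G] : Nat.card {p : G × G //
    IsConj t p.1 ∧ IsConj (K.f 25) p.2 ∧ t ∈ Subgroup.zpowers (p.1 * p.2)} = 108 := by
  classical
  set L := (tList.flatMap fun p => evList.map fun q => (p, q)).filter fun pq =>
    (List.range 12).any fun k => pw (mul pq.1 pq.2) k == 24 with hL
  have hmem : ∀ a b, (a, b) ∈ L ↔ (a ∈ tList ∧ b ∈ evList) ∧ ∃ k < 12, pw (mul a b) k = 24 := by
    intro a b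
    simp only [hL, List.mem_filter, List.mem_flatMap, List.mem_map, Prod.mk.injEq, List.any_eq_true,
      List.mem_range, beq_iff_eq]
    exact ⟨fun ⟨⟨_, h1, _, h2, rfl, rfl⟩, h3⟩ => ⟨⟨h1, h2⟩, h3⟩,
      fun ⟨⟨h1, h2⟩, h3⟩ => ⟨⟨a, h1, b, h2, rfl, rfl⟩, h3⟩⟩
  have htev : ∀ x, x < 576 → (x ∈ tList ↔ kind x = 1 ∨ kind x = 4) ∧
      (x ∈ evList ↔ kind x = 2 ∨ kind x = 3) := fun x hx => by
    have h := all576_spec chk_tev x hx
    simp only [Bool.and_eq_true, beq_iff_eq] at h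
    obtain ⟨h1, h2⟩ := h
    rw [← List.contains_iff_mem, ← List.contains_iff_mem, h1, h2, Bool.or_eq_true, beq_iff_eq,
      beq_iff_eq, Bool.or_eq_true, beq_iff_eq, beq_iff_eq]
    exact ⟨Iff.rfl, Iff.rfl⟩
  have hset : {p : G × G | IsConj t p.1 ∧ IsConj (K.f 25) p.2 ∧ t ∈ Subgroup.zpowers (p.1 * p.2)} =
      ↑(L.toFinset.image fun ab => (K.f ab.1, K.f ab.2)) := by
    ext ⟨p, q⟩
    simp only [Set.mem_ofPred_eq, Finset.coe_image, List.coe_toFinset, Set.mem_image, Prod.exists,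
      Prod.mk.injEq]
    constructor
    · rintro ⟨hp, hq, hz⟩
      have hp2 : orderOf p = 2 := K.sq_of_type hK (Or.inl hp)
      have hq2 : orderOf q = 2 := K.sq_of_type hK (Or.inr hq)
      obtain ⟨c1, c2⟩ := conj_eq_of_zpowers (by rw [← pow_two, ← hp2, pow_orderOf_eq_one])
        (by rw [← pow_two, ← hq2, pow_orderOf_eq_one]) (K.E_sq K.t_mem_E) hz
      obtain ⟨a, ha, rfl⟩ := K.exists_invol c1 hp2
      obtain ⟨b, hb, rfl⟩ := K.exists_invol c2 hq2
      refine ⟨a, b, (hmem a b).2 ⟨⟨(htev a (lt_of_invols ha)).1.2 ((K.isConj_code hK ha).1.1 hp),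
        (htev b (lt_of_invols hb)).2.2 ((K.isConj_code hK hb).2.1 hq)⟩, ?_⟩, rfl, rfl⟩
      rw [← K.hmul (lt_of_invols ha) (lt_of_invols hb)] at hz
      obtain ⟨k, hk⟩ := mem_powers_iff_mem_zpowers.2 hz
      change K.f (mul a b) ^ k = t at hk
      refine ⟨k % 12, Nat.mod_lt _ (by norm_num), K.hinj (pw_lt _ _) (by norm_num) ?_⟩
      rw [K.f_pw (mul_lt _ _)]
      exact ((pow_eq_pow_mod k (K.pow_twelve (mul_lt _ _))).symm.trans hk).trans K.f_t.symm
    · rintro ⟨a, b, hab, rfl, rfl⟩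
      obtain ⟨⟨ha, hb⟩, k, -, hk⟩ := (hmem a b).1 hab
      have ha' := lt_of_tev.1 a ha
      have hb' := lt_of_tev.2 b hb
      have hka := (htev a ha').1.1 ha
      have hkb := (htev b hb').2.1 hb
      refine ⟨(K.isConj_code hK ((mem_invols ha').2 (by omega))).1.2 hka,
        (K.isConj_code hK ((mem_invols hb').2 (by omega))).2.2 hkb, ⟨(k : ℤ), ?_⟩⟩
      show (K.f a * K.f b) ^ (k : ℤ) = t
      rw [zpow_natCast, ← K.hmul ha' hb', ← K.f_pw (mul_lt _ _), hk, K.f_t]
  calc Nat.card {p : G × G //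
        IsConj t p.1 ∧ IsConj (K.f 25) p.2 ∧ t ∈ Subgroup.zpowers (p.1 * p.2)}
      = ({p : G × G | IsConj t p.1 ∧ IsConj (K.f 25) p.2 ∧
          t ∈ Subgroup.zpowers (p.1 * p.2)}).ncard := Nat.card_coe_set_eq _
    _ = (L.toFinset.image fun ab => (K.f ab.1, K.f ab.2)).card := by rw [hset, Set.ncard_coe_finset]
    _ = L.toFinset.card := by
      refine Finset.card_image_of_injOn fun x hx y hy h => ?_
      simp only [Finset.mem_coe, List.mem_toFinset] at hx hy
      obtain ⟨a, b⟩ := x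
      obtain ⟨c, d⟩ := y
      obtain ⟨⟨ha, hb⟩, -⟩ := (hmem a b).1 hx
      obtain ⟨⟨hc, hd⟩, -⟩ := (hmem c d).1 hy
      simp only [Prod.mk.injEq] at h ⊢
      exact ⟨K.hinj (lt_of_tev.1 a ha) (lt_of_tev.1 c hc) h.1,
        K.hinj (lt_of_tev.2 b hb) (lt_of_tev.2 d hd) h.2⟩
    _ = 108 := by
      rw [List.toFinset_card_of_nodup (nodup_pairs.filter _)]
      exact chk_count_t

/-- Involutions exchanging `t` and `f 1`. -/
def Sw : Set G := {q | orderOf q = 2 ∧ q * t * q⁻¹ = K.f 1}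

omit hK in
theorem Sw_comm {q : G} (hq : q ∈ K.Sw) : q * K.f 25 = K.f 25 * q := by
  refine mul_inv_eq_iff_eq_mul.1 ?_
  calc q * K.f 25 * q⁻¹ = q * t * q⁻¹ * (q * K.f 1 * q⁻¹) := by rw [K.e_eq]; group
    _ = K.f 1 * (q * K.f 1 * q⁻¹) := by rw [hq.2]
    _ = K.f 1 * t := by rw [conj_swap_of_invol hq.1 hq.2]
    _ = K.f 25 := by rw [K.e_eq, K.E_comm K.one_mem_E K.t_mem_E]

theorem Sw_mem_N [Finite G] {q : G} (hq : q ∈ K.Sw) : q ∈ K.N :=
  K.cent_e_le_N hK (K.Sw_comm hq)

theorem Sw_type [Finite G] {q : G} (hq : q ∈ K.Sw) : IsConj (K.f 25) q := by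
  refine (K.invol_cases hK hq.1).resolve_left fun h => ?_
  have hE := K.tType_mem_E hK (K.Sw_mem_N hK hq) h
  exact K.one_ne_t (by rw [← hq.2, K.E_comm hE K.t_mem_E, mul_inv_cancel_right])

theorem Sw_one_fixed [Finite G] {q : G} (hq : q ∈ K.Sw) :
    ∃ j ∈ ([75, 375, 575] : List ℕ), q * K.f j * q⁻¹ = K.f j := by
  have himg : ∀ j ∈ ([75, 375, 575] : List ℕ), ∃ k ∈ ([75, 375, 575] : List ℕ),
      q * K.f j * q⁻¹ = K.f k := by
    intro j hj
    obtain ⟨hj5, hj24, hj1, hj0⟩ := chk_rest j hj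
    obtain ⟨hjE, hjt⟩ := (K.tType_E hK).2 ⟨j, hj5, rfl⟩
    obtain ⟨k, hk, hke⟩ := (K.tType_E hK).1
      ⟨K.mem_N.1 (K.Sw_mem_N hK hq) _ hjE, hjt.trans (isConj_iff.2 ⟨q, rfl⟩)⟩
    refine ⟨k, ?_, hke.symm⟩
    rcases five_rest k hk with rfl | rfl | h
    · exfalso
      rw [K.f_t] at hke
      exact hj1 (K.hinj (lt_of_e0 hj0) (by norm_num)
        ((conj_swap_of_invol hq.1 hke.symm).symm.trans hq.2))
    · exfalso
      exact hj24 (K.hinj (lt_of_e0 hj0) (by norm_num)
        (((conj_swap_of_invol hq.1 hke.symm).symm.trans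
          (conj_swap_of_invol hq.1 hq.2)).trans K.f_t.symm))
    · exact h
  obtain ⟨a, ha, hae⟩ := himg 75 (by simp)
  obtain ⟨b, hb, hbe⟩ := himg 375 (by simp)
  obtain ⟨c, hc, hce⟩ := himg 575 (by simp)
  simp only [List.mem_cons, List.not_mem_nil, or_false] at ha hb hc
  have inj : ∀ u v, u < 576 → v < 576 → q * K.f u * q⁻¹ = q * K.f v * q⁻¹ → u = v :=
    fun u v hu hv h => K.hinj hu hv (mul_left_cancel (mul_right_cancel h))
  rcases ha with rfl | rfl | rfl
  · exact ⟨75, by simp, hae⟩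
  · -- `75 ↔ 375`
    have hb' := conj_swap_of_invol hq.1 hae
    refine ⟨575, by simp, ?_⟩
    rcases hc with rfl | rfl | rfl
    · have := inj 575 375 (by norm_num) (by norm_num) (hce.trans hb'.symm); omega
    · have := inj 575 75 (by norm_num) (by norm_num) (hce.trans hae.symm); omega
    · exact hce
  · -- `75 ↔ 575`
    have hc' := conj_swap_of_invol hq.1 hae
    refine ⟨375, by simp, ?_⟩
    rcases hb with rfl | rfl | rfl
    · have := inj 375 575 (by norm_num) (by norm_num) (hbe.trans hc'.symm); omega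
    · exact hbe
    · have := inj 375 75 (by norm_num) (by norm_num) (hbe.trans hae.symm); omega

theorem Sw_fibre [Finite G] {j : ℕ} (hj : j ∈ ([75, 375, 575] : List ℕ)) :
    ({q : G | q ∈ K.Sw ∧ q * K.f j * q⁻¹ = K.f j}).ncard = 4 ∧
      ∀ q ∈ K.Sw, q * K.f j * q⁻¹ = K.f j → ∀ k ∈ ([75, 375, 575] : List ℕ),
        q * K.f k * q⁻¹ = K.f k → k = j := by
  classical
  obtain ⟨hj5, hj24, hj1, hj0⟩ := chk_rest j hj
  have hj' := lt_of_e0 hj0
  obtain ⟨hjE, hjt⟩ := (K.tType_E hK).2 ⟨j, hj5, rfl⟩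
  obtain ⟨n, hn, hna⟩ := K.exists_norm hjE hjt.symm
  have inj : ∀ u v : G, n * u * n⁻¹ = n * v * n⁻¹ → u = v := fun u v h =>
    mul_left_cancel (mul_right_cancel h)
  have him : ∀ k ∈ five, k ≠ j → ∃ a ∈ ([1, 75, 375, 575] : List ℕ),
      n * K.f k * n⁻¹ = K.f a := by
    intro k hk hkj
    obtain ⟨hkE, hkt⟩ := (K.tType_E hK).2 ⟨k, hk, rfl⟩
    obtain ⟨a, ha, hae⟩ := (K.tType_E hK).1
      ⟨K.mem_N.1 hn _ hkE, hkt.trans (isConj_iff.2 ⟨n, rfl⟩)⟩
    refine ⟨a, chk_four a ha ?_, hae.symm⟩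
    rintro rfl
    exact hkj (K.hinj (lt_of_e0 (chk_five_sub k hk).1) hj'
      (inj _ _ ((hae.symm.trans K.f_t).trans hna.symm)))
  obtain ⟨a, ha, hae⟩ := him 24 (by decide +kernel) hj24.symm
  rw [K.f_t] at hae
  obtain ⟨b, hb, hbe⟩ := him 1 (by decide +kernel) hj1.symm
  have hab : a ≠ b := by
    rintro rfl
    exact K.one_ne_t (inj _ _ (hbe.trans hae.symm))
  obtain ⟨hlen, hsw⟩ := chk_swap' a ha b hb hab
  -- transport by `n`
  have hfwd : ∀ q, q ∈ K.Sw → q * K.f j * q⁻¹ = K.f j →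
      ∃ y ∈ invols, conj y a = b ∧ K.f y = n * q * n⁻¹ := by
    intro q hq hqj
    have hc : n * q * n⁻¹ * t = t * (n * q * n⁻¹) := by
      calc n * q * n⁻¹ * t = n * q * n⁻¹ * (n * K.f j * n⁻¹) :=
            congrArg (n * q * n⁻¹ * ·) hna.symm
        _ = n * (q * K.f j * q⁻¹) * q * n⁻¹ := by group
        _ = n * K.f j * n⁻¹ * (n * q * n⁻¹) := by rw [hqj]; group
        _ = t * (n * q * n⁻¹) := congrArg (· * (n * q * n⁻¹)) hna
    obtain ⟨y, hy, hye⟩ := K.exists_invol hc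
      (by rw [← MulAut.conj_apply, (MulAut.conj n).orderOf_eq, hq.1])
    refine ⟨y, hy, K.hinj (conj_lt _ _) (lt_of_invols' hb) ?_, hye⟩
    rw [K.f_conj (lt_of_invols hy) (lt_of_invols' ha), hye, ← hae, ← hbe, ← hq.2]
    group
  have hset : (fun q => n * q * n⁻¹) '' {q : G | q ∈ K.Sw ∧ q * K.f j * q⁻¹ = K.f j} =
      ↑((invols.filter fun q => conj q a == b).toFinset.image K.f) := by
    ext w
    simp only [Set.mem_image, Set.mem_ofPred_eq, Finset.coe_image, List.coe_toFinset, List.mem_filter,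
      beq_iff_eq]
    constructor
    · rintro ⟨q, ⟨hq, hqj⟩, rfl⟩
      obtain ⟨y, hy, hy1, hy2⟩ := hfwd q hq hqj
      exact ⟨y, ⟨hy, hy1⟩, hy2⟩
    · rintro ⟨y, ⟨hy, hy1⟩, rfl⟩
      have hy' := lt_of_invols hy
      refine ⟨n⁻¹ * K.f y * n, ⟨⟨?_, ?_⟩, ?_⟩, by group⟩
      · rw [show n⁻¹ * K.f y * n = MulAut.conj n⁻¹ (K.f y) by simp [MulAut.conj_apply],
          (MulAut.conj n⁻¹).orderOf_eq, (K.orderOf_f hy').2 hy]
      · refine inj _ _ ?_
        rw [hbe]
        calc n * (n⁻¹ * K.f y * n * t * (n⁻¹ * K.f y * n)⁻¹) * n⁻¹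
            = K.f y * (n * t * n⁻¹) * (K.f y)⁻¹ := by group
          _ = K.f b := by rw [hae, ← K.f_conj hy' (lt_of_invols' ha), hy1]
      · refine inj _ _ ?_
        calc n * (n⁻¹ * K.f y * n * K.f j * (n⁻¹ * K.f y * n)⁻¹) * n⁻¹
            = K.f y * (n * K.f j * n⁻¹) * (K.f y)⁻¹ := by group
          _ = n * K.f j * n⁻¹ := by
            rw [congrArg (fun z => K.f y * z * (K.f y)⁻¹) hna]
            exact (mul_inv_eq_iff_eq_mul.2 (K.f_mem hy')).trans hna.symm
  refine ⟨?_, ?_⟩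
  · rw [← Set.ncard_image_of_injective (f := fun q => n * q * n⁻¹) _ (fun u v h => inj u v h), hset,
      Set.ncard_coe_finset, Finset.card_image_of_injOn (fun u hu v hv h => by
        simp only [Finset.mem_coe, List.mem_toFinset, List.mem_filter] at hu hv
        exact K.hinj (lt_of_invols hu.1) (lt_of_invols hv.1) h),
      List.toFinset_card_of_nodup (invols_nodup.filter _), hlen]
  · intro q hq hqj k hk hqk
    by_contra hkj
    obtain ⟨hk5, hk24, hk1, hk0⟩ := chk_rest k hk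
    obtain ⟨c, hc, hce⟩ := him k hk5 hkj
    obtain ⟨y, hy, hy1, hy2⟩ := hfwd q hq hqj
    rcases hsw y hy hy1 c hc with h | h | h
    · rw [h, ← hae] at hce
      exact hk24 (K.hinj (lt_of_e0 hk0) (by norm_num) ((inj _ _ hce).trans K.f_t.symm))
    · rw [h, ← hbe] at hce
      exact hk1 (K.hinj (lt_of_e0 hk0) (by norm_num) (inj _ _ hce))
    · refine h (K.hinj (conj_lt _ _) (lt_of_invols' hc) ?_)
      rw [K.f_conj (lt_of_invols hy) (lt_of_invols' hc), hy2, ← hce]
      conv_rhs => rw [← hqk]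
      group

theorem card_Sw [Finite G] : K.Sw.ncard = 12 := by
  classical
  set F := fun j => {q : G | q ∈ K.Sw ∧ q * K.f j * q⁻¹ = K.f j} with hF
  have hu : K.Sw = F 75 ∪ F 375 ∪ F 575 := by
    ext q
    simp only [hF, Set.mem_union, Set.mem_ofPred_eq]
    refine ⟨fun hq => ?_, by tauto⟩
    obtain ⟨j, hj, hjq⟩ := K.Sw_one_fixed hK hq
    simp only [List.mem_cons, List.not_mem_nil, or_false] at hj
    rcases hj with rfl | rfl | rfl
    · exact Or.inl (Or.inl ⟨hq, hjq⟩)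
    · exact Or.inl (Or.inr ⟨hq, hjq⟩)
    · exact Or.inr ⟨hq, hjq⟩
  have hd : ∀ {j k}, j ∈ ([75, 375, 575] : List ℕ) → k ∈ ([75, 375, 575] : List ℕ) → j ≠ k →
      Disjoint (F j) (F k) := fun {j k} hj hk hne => Set.disjoint_left.2 fun q h1 h2 =>
    hne ((K.Sw_fibre hK hj).2 q h1.1 h1.2 k hk h2.2).symm
  rw [hu, Set.ncard_union_eq (Set.disjoint_union_left.2
      ⟨hd (by simp) (by simp) (by norm_num), hd (by simp) (by simp) (by norm_num)⟩),
    Set.ncard_union_eq (hd (by simp) (by simp) (by norm_num)), (K.Sw_fibre hK (by simp)).1,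
    (K.Sw_fibre hK (by simp)).1, (K.Sw_fibre hK (by simp)).1]

theorem count_e [Finite G] : Nat.card {p : G × G //
    IsConj t p.1 ∧ IsConj (K.f 25) p.2 ∧ K.f 25 ∈ Subgroup.zpowers (p.1 * p.2)} = 27 := by
  classical
  set A1 : Set (G × G) :=
    ↑(([75, 375, 575] : List ℕ).toFinset.image fun j => (K.f j, K.f j * K.f 25)) with hA1
  set A2 : Set (G × G) := ({t, K.f 1} : Set G) ×ˢ K.Sw with hA2
  have hA1m : ∀ p, p ∈ A1 ↔ ∃ j ∈ ([75, 375, 575] : List ℕ), (K.f j, K.f j * K.f 25) = p :=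
    fun p => by simp [hA1, eq_comm]
  have hset : {p : G × G | IsConj t p.1 ∧ IsConj (K.f 25) p.2 ∧
      K.f 25 ∈ Subgroup.zpowers (p.1 * p.2)} = A1 ∪ A2 := by
    ext ⟨p, q⟩
    simp only [Set.mem_ofPred_eq, Set.mem_union, hA1m, hA2, Set.mem_prod, Set.mem_insert_iff,
      Set.mem_singleton_iff, Prod.mk.injEq]
    constructor
    · rintro ⟨hp, hq, hz⟩
      have hp2 : orderOf p = 2 := K.sq_of_type hK (Or.inl hp)
      have hq2 : orderOf q = 2 := K.sq_of_type hK (Or.inr hq)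
      have hpp : p * p = 1 := by rw [← pow_two, ← hp2, pow_orderOf_eq_one]
      have hqq : q * q = 1 := by rw [← pow_two, ← hq2, pow_orderOf_eq_one]
      obtain ⟨c1, c2⟩ := conj_eq_of_zpowers hpp hqq (K.E_sq K.e_mem_E) hz
      have hpE := K.tType_mem_E hK (K.cent_e_le_N hK c1) hp
      obtain ⟨a, ha, rfl⟩ := (K.tType_E hK).1 ⟨hpE, hp⟩
      have hla := lt_of_e0 (chk_five_sub a ha).1
      obtain ⟨k, hk⟩ := hz
      change (K.f a * q) ^ k = K.f 25 at hk
      have hne1 : K.f 25 ≠ 1 := fun h =>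
        absurd (K.f_eq_one (by norm_num) h) (by norm_num)
      by_cases hc : K.f a * q = q * K.f a
      · -- commuting pairs
        have hq' : q = K.f a * K.f 25 := by
          have hw : (K.f a * q) * (K.f a * q) = 1 := by
            calc K.f a * q * (K.f a * q) = K.f a * q * (q * K.f a) := by rw [← hc]
              _ = K.f a * (q * q) * K.f a := by group
              _ = 1 := by rw [hqq, mul_one, hpp]
          obtain ⟨i, rfl | rfl⟩ := Int.even_or_odd' k
          · exact absurd (by rw [← hk, zpow_mul, zpow_two, hw, one_zpow]) hne1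
          · rw [zpow_add, zpow_mul, zpow_two, hw, one_zpow, one_mul, zpow_one] at hk
            rw [← hk, ← mul_assoc, hpp, one_mul]
        left
        rcases five_rest a ha with rfl | rfl | h
        · exfalso
          have : q = K.f 1 := by
            rw [hq', K.f_t, K.e_eq, ← mul_assoc, K.E_sq K.t_mem_E, one_mul]
          rw [this] at hq
          exact K.not_both_types hK (K.isConj_one hK) hq
        · exfalso
          have : q = t := by
            rw [hq', K.e_eq, K.E_comm K.t_mem_E K.one_mem_E, ← mul_assoc, K.E_sq K.one_mem_E, one_mul]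
          rw [this] at hq
          exact K.not_both_types hK (IsConj.refl t) hq
        · exact ⟨a, h, rfl, hq'.symm⟩
      · -- `(pq)² = p · p^q`
        right
        have hqN := K.cent_e_le_N hK c2
        obtain ⟨b, hb, hbe⟩ := (K.tType_E hK).1
          ⟨K.mem_N.1 hqN _ hpE, hp.trans (isConj_iff.2 ⟨q, rfl⟩)⟩
        have hlb := lt_of_e0 (chk_five_sub b hb).1
        have hqi : q⁻¹ = q := inv_eq_of_mul_eq_one_right hqq
        have hsq : (K.f a * q) * (K.f a * q) = K.f (mul a b) := by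
          rw [K.hmul hla hlb, hbe, hqi]
          simp [mul_assoc]
        have hab : a ≠ b := by
          rintro rfl
          exact hc (mul_inv_eq_iff_eq_mul.1 hbe.symm).symm
        have hmE : K.f (mul a b) ∈ K.E := by
          rw [K.hmul hla hlb]
          exact mul_mem hpE ((K.tType_E hK).2 ⟨b, hb, rfl⟩).1
        have h25 : mul a b = 25 := by
          obtain ⟨i, rfl | rfl⟩ := Int.even_or_odd' k
          · rw [zpow_mul, zpow_two, hsq] at hk
            obtain ⟨l, rfl | rfl⟩ := Int.even_or_odd' i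
            · rw [zpow_mul, zpow_two, K.E_sq hmE, one_zpow] at hk
              exact absurd hk.symm hne1
            · rw [zpow_add, zpow_mul, zpow_two, K.E_sq hmE, one_zpow, one_mul, zpow_one] at hk
              exact K.hinj (mul_lt _ _) (by norm_num) hk
          · exfalso
            have h2 : K.f 25 * K.f 25 = 1 := K.E_sq K.e_mem_E
            have e1 : ((K.f a * q) * (K.f a * q)) ^ (2 * i + 1) = K.f 25 * K.f 25 := by
              rw [← hk, ← zpow_two, ← zpow_mul, ← zpow_add]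
              congr 1
              ring
            rw [hsq, h2, zpow_add, zpow_mul, zpow_two, K.E_sq hmE, one_zpow, one_mul, zpow_one,
              K.hmul hla hlb] at e1
            refine hab (K.hinj hla hlb ?_)
            calc K.f a = K.f a * (K.f a * K.f b) := by rw [e1, mul_one]
              _ = K.f b := by rw [← mul_assoc, hpp, one_mul]
        rcases chk_pair25 a ha b hb h25 hab with ⟨rfl, rfl⟩ | ⟨rfl, rfl⟩
        · refine ⟨Or.inl K.f_t, hq2, ?_⟩
          rw [hbe, K.f_t]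
        · refine ⟨Or.inr rfl, hq2, ?_⟩
          exact conj_swap_of_invol hq2 (hbe.symm.trans K.f_t)
    · rintro (⟨j, hj, rfl, rfl⟩ | ⟨hp, hq⟩)
      · obtain ⟨hj5, -, -, hj0⟩ := chk_rest j hj
        have hj' := lt_of_e0 hj0
        have hk := chk_mul25 j hj
        have hji : mul j 25 ∈ invols := (mem_invols (mul_lt _ _)).2 (by omega)
        refine ⟨((K.tType_E hK).2 ⟨j, hj5, rfl⟩).2, ?_, ?_⟩
        · rw [← K.hmul hj' (by norm_num)]
          exact (K.isConj_code hK hji).2.2 hk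
        · rw [← mul_assoc, K.E_sq ⟨j, hj0, rfl⟩, one_mul]
          exact Subgroup.mem_zpowers _
      · refine ⟨?_, K.Sw_type hK hq, ⟨2, ?_⟩⟩
        · rcases hp with h | h <;> rw [h]
          exact K.isConj_one hK
        · have hqq : q * q = 1 := by rw [← pow_two, ← hq.1, pow_orderOf_eq_one]
          have hqi : q⁻¹ = q := inv_eq_of_mul_eq_one_right hqq
          show (p * q) ^ (2 : ℤ) = K.f 25
          rw [zpow_two]
          rcases hp with h | h <;> rw [h]
          · calc t * q * (t * q) = t * (q * t * q⁻¹) := by rw [hqi]; group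
              _ = K.f 25 := by rw [hq.2, K.e_eq]
          · calc K.f 1 * q * (K.f 1 * q) = K.f 1 * (q * K.f 1 * q⁻¹) := by rw [hqi]; group
              _ = K.f 25 := by
                rw [conj_swap_of_invol hq.1 hq.2, K.e_eq, K.E_comm K.one_mem_E K.t_mem_E]
  have hdis : Disjoint A1 A2 := Set.disjoint_left.2 fun p h1 h2 => by
    obtain ⟨j, hj, rfl⟩ := (hA1m p).1 h1
    obtain ⟨-, hj24, hj1, hj0⟩ := chk_rest j hj
    rcases h2.1 with h | h
    · exact hj24 (K.hinj (lt_of_e0 hj0) (by norm_num) (h.trans K.f_t.symm))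
    · exact hj1 (K.hinj (lt_of_e0 hj0) (by norm_num) h)
  calc Nat.card {p : G × G //
        IsConj t p.1 ∧ IsConj (K.f 25) p.2 ∧ K.f 25 ∈ Subgroup.zpowers (p.1 * p.2)}
      = ({p : G × G | IsConj t p.1 ∧ IsConj (K.f 25) p.2 ∧
          K.f 25 ∈ Subgroup.zpowers (p.1 * p.2)}).ncard := Nat.card_coe_set_eq _
    _ = A1.ncard + A2.ncard := by rw [hset, Set.ncard_union_eq hdis]
    _ = 27 := by
      rw [hA1, Set.ncard_coe_finset, Finset.card_image_of_injOn (fun u hu v hv h => by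
          simp only [Finset.mem_coe, List.mem_toFinset] at hu hv
          exact K.hinj (lt_of_e0 (chk_rest u hu).2.2.2) (lt_of_e0 (chk_rest v hv).2.2.2)
            (congrArg Prod.fst h)), hA2, Set.ncard_prod, K.card_Sw hK,
        Set.ncard_pair K.one_ne_t.symm]
      rfl

theorem card_eq [Finite G] : Nat.card G = 25920 := by
  have h := S0213.result t (K.f 25) K.t_order ((K.orderOf_f (by norm_num)).2 (by decide +kernel))
    (fun h => hK.not_two h.symm) (fun w hw => K.invol_cases hK hw)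
  rw [K.card_cent_e hK, K.card_cent, K.count_t hK, K.count_e hK] at h
  rw [h]

end Cent

end Cfsg.Agent.PSpCent
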