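import Cfsg.Agent.Lib.PSpCent.Order

/-!
# The 27 conjugates of `E`
-/

set_option autoImplicit false
set_option linter.style.haveILetI false

namespace Cfsg.Agent.PSpCent

open Cfsg

theorem chk_class_E : all576 (fun c => ([0, 1, 2] : List Nat).any fun j =>
    e0List.all fun v => inE j (conj c v)) = true := by decide +kernel

theorem chk_distinct : ∀ i ∈ ([0, 1, 2] : List ℕ), ∀ j ∈ ([0, 1, 2] : List ℕ), i ≠ j →
    ∃ x ∈ invols, inE i x = true ∧ inE j x = false := by decide +kernel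

theorem chk_four_only : ∀ x ∈ ([1, 75, 375, 575] : List ℕ), ∀ j ∈ ([0, 1, 2] : List ℕ),
    inE j x = true → j = 0 := by decide +kernel

theorem eWit_zero : eWit 0 = 0 := rfl

namespace Cent

variable {G : Type*} [Group G] {t : G} (K : Cent G t) (hK : Good K)

/-- A conjugate of `E`. -/
def IsPt (P : Subgroup G) : Prop := ∃ g, K.Econj g = P

theorem Econj_one : K.Econj 1 = K.E := by
  ext a
  simp [K.mem_Econj]

theorem isPt_E : K.IsPt K.E := ⟨1, K.Econj_one⟩

theorem Econj_map (h g : G) :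
    (K.Econj g).map (MulAut.conj h).toMonoidHom = K.Econj (h * g) := by
  ext a
  rw [K.mem_Econj]
  constructor
  · rintro ⟨b, hb, rfl⟩
    simpa [MulAut.conj_apply, mul_assoc] using K.mem_Econj.1 hb
  · intro ha
    exact ⟨h⁻¹ * a * h, K.mem_Econj.2 (by simpa [mul_assoc] using ha),
      by simp [MulAut.conj_apply, mul_assoc]⟩

theorem mem_map_conj {P : Subgroup G} {h a : G} :
    a ∈ P.map (MulAut.conj h).toMonoidHom ↔ h⁻¹ * a * h ∈ P := by
  constructor
  · rintro ⟨b, hb, rfl⟩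
    simpa [MulAut.conj_apply, mul_assoc] using hb
  · intro ha
    exact ⟨_, ha, by simp [MulAut.conj_apply, mul_assoc]⟩

theorem IsPt.map {P : Subgroup G} (hP : K.IsPt P) (h : G) :
    K.IsPt (P.map (MulAut.conj h).toMonoidHom) := by
  obtain ⟨g, rfl⟩ := hP
  exact ⟨h * g, (K.Econj_map h g).symm⟩

theorem IsPt.comm {P : Subgroup G} (hP : K.IsPt P) {a b : G} (ha : a ∈ P) (hb : b ∈ P) :
    a * b = b * a := by
  obtain ⟨g, rfl⟩ := hP
  exact K.Econj_comm ha hb

theorem IsPt.sq {P : Subgroup G} (hP : K.IsPt P) {a : G} (ha : a ∈ P) : a * a = 1 := by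
  obtain ⟨g, rfl⟩ := hP
  exact K.Econj_sq ha

theorem Econj_eq_iff [Finite G] {g h : G} : K.Econj g = K.Econj h ↔ h⁻¹ * g ∈ K.N := by
  constructor
  · intro he
    refine K.mem_N.2 fun v hv => ?_
    have := K.conj_mem_Econj (g := g) hv
    rw [he, K.mem_Econj] at this
    simpa [mul_assoc] using this
  · intro hN
    refine Subgroup.eq_of_le_of_card_ge (fun a ha => ?_) (by rw [K.card_Econj, K.card_Econj])
    rw [K.mem_Econj] at ha ⊢
    simpa [mul_assoc] using K.mem_N.1 hN _ ha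

theorem map_of_mem {P : Subgroup G} (hP : K.IsPt P) {a : G} (ha : a ∈ P) :
    P.map (MulAut.conj a).toMonoidHom = P := by
  ext v
  rw [mem_map_conj]
  constructor
  · intro h
    have := mul_mem (mul_mem ha h) (inv_mem ha)
    simpa [mul_assoc] using this
  · exact fun h => mul_mem (mul_mem (inv_mem ha) h) ha

theorem map_comp (P : Subgroup G) (g h : G) :
    (P.map (MulAut.conj h).toMonoidHom).map (MulAut.conj g).toMonoidHom =
      P.map (MulAut.conj (g * h)).toMonoidHom := by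
  ext v
  simp only [mem_map_conj, mul_inv_rev, mul_assoc]

theorem map_inj {P Q : Subgroup G} {g : G}
    (h : P.map (MulAut.conj g).toMonoidHom = Q.map (MulAut.conj g).toMonoidHom) : P = Q :=
  Subgroup.map_injective (MulAut.conj g).injective h

/-- The points through `t`. -/
theorem pt_through_t [Finite G] {P : Subgroup G} (hP : K.IsPt P) (ht : t ∈ P) :
    ∃ j ∈ ([0, 1, 2] : List ℕ), P = K.Econj (K.f (eWit j)) := by
  obtain ⟨g, rfl⟩ := hP
  obtain ⟨c, hc, he⟩ := K.elementary_eq ht (fun a ha b hb => K.Econj_comm ha hb)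
    (fun a ha => K.Econj_sq ha) (by rw [K.card_Econj])
  obtain ⟨z, hz, rfl⟩ := (K.mem_iff c).1 hc
  have h := all576_spec chk_class_E z hz
  simp only [List.any_eq_true, List.all_eq_true] at h
  obtain ⟨j, hj, hj'⟩ := h
  refine ⟨j, hj, he.trans (Subgroup.eq_of_le_of_card_ge (fun a ha => ?_)
    (by rw [K.card_Econj, K.card_Econj]))⟩
  obtain ⟨b, ⟨v, hv, rfl⟩, rfl⟩ := ha
  show (MulAut.conj (K.f z)) (K.f v) ∈ _
  rw [MulAut.conj_apply, ← K.f_conj hz (lt_of_e0 hv), K.mem_Econj_eWit hj (conj_lt _ _)]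
  exact hj' v hv

theorem t_mem_Econj_eWit {j : ℕ} (hj : j ∈ ([0, 1, 2] : List ℕ)) :
    t ∈ K.Econj (K.f (eWit j)) := by
  have h : inE j 24 = true := by revert j; decide +kernel
  have h2 := (K.mem_Econj_eWit hj (x := 24) (by norm_num)).2 h
  have h3 : ∀ z, z = t → z ∈ K.Econj (K.f (eWit j)) → t ∈ K.Econj (K.f (eWit j)) := by
    intro z e hz
    exact e ▸ hz
  exact h3 _ K.f_t h2

theorem eWit_inj {i j : ℕ} (hi : i ∈ ([0, 1, 2] : List ℕ)) (hj : j ∈ ([0, 1, 2] : List ℕ))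
    (h : K.Econj (K.f (eWit i)) = K.Econj (K.f (eWit j))) : i = j := by
  by_contra hne
  obtain ⟨x, hx, h1, h2⟩ := chk_distinct i hi j hj hne
  have := (K.mem_Econj_eWit hi (lt_of_invols hx)).2 h1
  rw [h, K.mem_Econj_eWit hj (lt_of_invols hx), h2] at this
  simp at this

/-- Adjacency: a common involution of the class of `t`. -/
def Adj (P Q : Subgroup G) : Prop := P ≠ Q ∧ ∃ a, IsConj t a ∧ a ∈ P ∧ a ∈ Q

omit K in
theorem Adj.symm' {P Q : Subgroup G} (h : Adj (t := t) P Q) : Adj (t := t) Q P :=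
  ⟨h.1.symm, h.2.choose, h.2.choose_spec.1, h.2.choose_spec.2.2, h.2.choose_spec.2.1⟩

theorem adj_map {P Q : Subgroup G} (h : G) (hA : Adj (t := t) P Q) :
    Adj (t := t) (P.map (MulAut.conj h).toMonoidHom) (Q.map (MulAut.conj h).toMonoidHom) := by
  obtain ⟨hne, a, ha, haP, haQ⟩ := hA
  exact ⟨fun e => hne (map_inj e), h * a * h⁻¹, ha.trans (isConj_iff.2 ⟨h, rfl⟩),
    ⟨a, haP, rfl⟩, ⟨a, haQ, rfl⟩⟩

variable [Finite G]

theorem isPt_frame {P : Subgroup G} (hP : K.IsPt P) {a : G} (ha : a ∈ P) (hat : IsConj t a) :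
    ∃ h : G, h * t * h⁻¹ = a ∧ P = K.Econj h := by
  obtain ⟨g, rfl⟩ := hP
  have ha' := K.mem_Econj.1 ha
  obtain ⟨n, hn, hna⟩ := K.exists_norm ha' ((hat.trans (isConj_iff.2 ⟨g⁻¹, by simp⟩)).symm)
  refine ⟨g * n⁻¹, ?_, (K.Econj_eq_iff.2 ?_).symm⟩
  · calc g * n⁻¹ * t * (g * n⁻¹)⁻¹
        = g * n⁻¹ * (n * (g⁻¹ * a * g) * n⁻¹) * (g * n⁻¹)⁻¹ :=
          congrArg (fun z => g * n⁻¹ * z * (g * n⁻¹)⁻¹) hna.symm
      _ = a := by group
  · rw [← mul_assoc, inv_mul_cancel, one_mul]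
    exact inv_mem hn

/-- Every point through `a` is one of three. -/
theorem three_through {a : G} (hat : IsConj t a) :
    ∃ S : Finset (Subgroup G), S.card = 3 ∧ ∀ P, P ∈ S ↔ (K.IsPt P ∧ a ∈ P) := by
  classical
  obtain ⟨h, hh⟩ := isConj_iff.1 hat
  refine ⟨([0, 1, 2] : List ℕ).toFinset.image fun j => K.Econj (h * K.f (eWit j)), ?_, fun P => ?_⟩
  · rw [Finset.card_image_of_injOn fun i hi j hj e => ?_]
    · decide
    · simp only [Finset.mem_coe, List.mem_toFinset] at hi hj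
      change K.Econj (h * K.f (eWit i)) = K.Econj (h * K.f (eWit j)) at e
      rw [← K.Econj_map, ← K.Econj_map] at e
      exact K.eWit_inj hi hj (map_inj e)
  simp only [Finset.mem_image, List.mem_toFinset]
  constructor
  · rintro ⟨j, hj, rfl⟩
    refine ⟨⟨_, rfl⟩, K.mem_Econj.2 ?_⟩
    have := K.mem_Econj.1 (K.t_mem_Econj_eWit hj)
    rw [← hh]
    simpa [mul_assoc] using this
  · rintro ⟨hP, ha⟩
    have ht : t ∈ P.map (MulAut.conj h⁻¹).toMonoidHom := by
      rw [mem_map_conj, inv_inv]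
      exact hh ▸ ha
    obtain ⟨j, hj, hj'⟩ := K.pt_through_t (hP.map K h⁻¹) ht
    refine ⟨j, hj, ?_⟩
    rw [← K.Econj_map, ← hj', map_comp, mul_inv_cancel]
    ext v
    simp [mem_map_conj]

include hK

/-- Two points share at most one involution of the class of `t`. -/
theorem share_unique {P Q : Subgroup G} (hP : K.IsPt P) (hQ : K.IsPt Q) (hne : P ≠ Q) {a b : G}
    (hat : IsConj t a) (hbt : IsConj t b) (haP : a ∈ P) (hbP : b ∈ P) (haQ : a ∈ Q) (hbQ : b ∈ Q) :
    a = b := by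
  by_contra hab
  obtain ⟨h, hh, rfl⟩ := K.isPt_frame hP haP hat
  have htQ : t ∈ Q.map (MulAut.conj h⁻¹).toMonoidHom := by
    rw [mem_map_conj, inv_inv]
    exact hh ▸ haQ
  obtain ⟨j, hj, hj'⟩ := K.pt_through_t (hQ.map K h⁻¹) htQ
  obtain ⟨x, hx, hxe⟩ := (K.tType_E hK).1
    ⟨K.mem_Econj.1 hbP, hbt.trans (isConj_iff.2 ⟨h⁻¹, by simp⟩)⟩
  have hx24 : x ≠ 24 := by
    rintro rfl
    refine hab (hh.symm.trans ?_)
    calc h * t * h⁻¹ = h * (h⁻¹ * b * h) * h⁻¹ :=
          congrArg (fun z => h * z * h⁻¹) (K.f_t.symm.trans hxe)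
      _ = b := by group
  have hxQ : K.f x ∈ K.Econj (K.f (eWit j)) := by
    rw [← hj', mem_map_conj, inv_inv, hxe]
    simpa [mul_assoc] using hbQ
  have hj0 := chk_four_only x (chk_four x hx hx24) j hj
    ((K.mem_Econj_eWit hj (lt_of_e0 (chk_five_sub x hx).1)).1 hxQ)
  refine hne ?_
  have e := congrArg (fun R : Subgroup G => R.map (MulAut.conj h).toMonoidHom) hj'
  simp only [map_comp, mul_inv_cancel] at e
  rw [hj0, eWit_zero, K.f_zero, Econj_map, mul_one] at e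
  rw [← e]
  ext v
  simp [mem_map_conj]

/-- A `t`-involution commuting with two of a point's five lies in it. -/
theorem mem_of_comm_two {P : Subgroup G} (hP : K.IsPt P) {a b c : G} (hat : IsConj t a)
    (hbt : IsConj t b) (hct : IsConj t c) (haP : a ∈ P) (hbP : b ∈ P) (hab : a ≠ b)
    (hca : c * a = a * c) (hcb : c * b = b * c) : c ∈ P := by
  obtain ⟨h, hh, rfl⟩ := K.isPt_frame hP haP hat
  obtain ⟨x, hx, hxe⟩ := (K.tType_E hK).1
    ⟨K.mem_Econj.1 hbP, hbt.trans (isConj_iff.2 ⟨h⁻¹, by simp⟩)⟩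
  have hx24 : x ≠ 24 := by
    rintro rfl
    refine hab (hh.symm.trans ?_)
    calc h * t * h⁻¹ = h * (h⁻¹ * b * h) * h⁻¹ :=
          congrArg (fun z => h * z * h⁻¹) (K.f_t.symm.trans hxe)
      _ = b := by group
  have hta : h⁻¹ * a * h = t := by rw [← hh]; group
  obtain ⟨y, hy, hye⟩ := K.exists_invol (g := h⁻¹ * c * h) (by
    calc h⁻¹ * c * h * t = h⁻¹ * c * h * (h⁻¹ * a * h) :=
          congrArg (h⁻¹ * c * h * ·) hta.symm
      _ = h⁻¹ * (c * a) * h := by group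
      _ = h⁻¹ * (a * c) * h := by rw [hca]
      _ = h⁻¹ * a * h * (h⁻¹ * c * h) := by group
      _ = t * (h⁻¹ * c * h) := congrArg (· * (h⁻¹ * c * h)) hta)
    (K.sq_of_type hK (Or.inl (hct.trans (isConj_iff.2 ⟨h⁻¹, by simp⟩))))
  have hk := (K.isConj_code hK hy).1.1 (hye ▸ hct.trans (isConj_iff.2 ⟨h⁻¹, by simp⟩))
  have hxy : comm x y = true :=
    (K.comm_iff (lt_of_e0 (chk_five_sub x hx).1) (lt_of_invols hy)).1 (by
      rw [hxe, hye]
      calc h⁻¹ * b * h * (h⁻¹ * c * h) = h⁻¹ * (b * c) * h := by group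
        _ = h⁻¹ * (c * b) * h := by rw [hcb]
        _ = h⁻¹ * c * h * (h⁻¹ * b * h) := by group)
  have h4 := chk_comm_four
  simp only [List.all_eq_true, Bool.or_eq_true, Bool.not_eq_true', List.contains_iff_mem] at h4
  have hy0 : y ∈ e0List := by
    refine (h4 x (chk_four x hx hx24) y hy).resolve_left ?_
    rcases hk with hk | hk <;> simp [hxy, hk]
  exact K.mem_Econj.2 (hye ▸ ⟨y, hy0, rfl⟩)

/-- Three pairwise adjacent points share one involution. -/
theorem triangle {P Q R : Subgroup G} (hP : K.IsPt P) (hQ : K.IsPt Q) (hR : K.IsPt R)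
    (hPQ : P ≠ Q) (hQR : Q ≠ R) (hPR : P ≠ R) {a b c : G} (hat : IsConj t a) (hbt : IsConj t b)
    (hct : IsConj t c) (haP : a ∈ P) (haQ : a ∈ Q) (hbQ : b ∈ Q) (hbR : b ∈ R) (hcP : c ∈ P)
    (hcR : c ∈ R) : a = b ∧ a = c := by
  rcases eq_or_ne a b with hab | hab
  · exact ⟨hab, K.share_unique hK hP hR hPR hat hct haP hcP (hab ▸ hbR) hcR⟩
  have hcQ := K.mem_of_comm_two hK hQ hat hbt hct haQ hbQ hab (hP.comm K hcP haP) (hR.comm K hcR hbR)
  have hca := K.share_unique hK hP hQ hPQ hat hct haP hcP haQ hcQ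
  exact absurd (K.share_unique hK hQ hR hQR hat hbt haQ hbQ (hca.symm ▸ hcR) hbR) hab

theorem five_of {P : Subgroup G} (hP : K.IsPt P) :
    Nat.card {a : G // a ∈ P ∧ IsConj t a} = 5 := by
  obtain ⟨g, rfl⟩ := hP
  rw [← K.card_tType_E hK]
  refine Nat.card_congr
    { toFun := fun a => ⟨g⁻¹ * a.1 * g, K.mem_Econj.1 a.2.1,
        a.2.2.trans (isConj_iff.2 ⟨g⁻¹, by simp⟩)⟩
      invFun := fun a => ⟨g * a.1 * g⁻¹, K.conj_mem_Econj a.2.1,
        a.2.2.trans (isConj_iff.2 ⟨g, rfl⟩)⟩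
      left_inv := fun a => Subtype.ext (by simp [mul_assoc])
      right_inv := fun a => Subtype.ext (by simp [mul_assoc]) }

theorem card_points : Nat.card {P : Subgroup G // K.IsPt P} = 27 := by
  classical
  let F : G ⧸ K.N → {P : Subgroup G // K.IsPt P} :=
    Quotient.lift (fun g => ⟨K.Econj g, g, rfl⟩) fun a b h => Subtype.ext (K.Econj_eq_iff.2 (by
      have := inv_mem (QuotientGroup.leftRel_apply.1 h)
      simpa using this))
  have hF : Function.Bijective F := by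
    refine ⟨fun a b => ?_, fun ⟨P, g, hg⟩ => ⟨QuotientGroup.mk g, Subtype.ext hg⟩⟩
    refine Quotient.inductionOn₂ a b fun a b h => Quotient.sound ?_
    refine QuotientGroup.leftRel_apply.2 ?_
    have := inv_mem (K.Econj_eq_iff.1 (congrArg Subtype.val h :))
    simpa using this
  rw [← Nat.card_congr (Equiv.ofBijective F hF), ← Subgroup.index_eq_card]
  have := Subgroup.card_mul_index K.N
  rw [K.card_N hK, K.card_eq hK] at this
  omega

/-- A non-trivial element of `E` fixes no point not adjacent to `E`. -/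
theorem E_free {P : Subgroup G} (hP : K.IsPt P) (hne : P ≠ K.E) (hnadj : ¬ Adj (t := t) K.E P)
    {v : G} (hv : v ∈ K.E) (hfix : P.map (MulAut.conj v).toMonoidHom = P) : v = 1 := by
  classical
  by_contra hv1
  have hvv := K.E_sq hv
  have hv2 : orderOf v = 2 := orderOf_eq_prime (by rw [pow_two, hvv]) hv1
  have hvi : v⁻¹ = v := inv_eq_of_mul_eq_one_right hvv
  have hpres : ∀ a ∈ P, v * a * v⁻¹ ∈ P := fun a ha => by
    have : v * a * v⁻¹ ∈ P.map (MulAut.conj v).toMonoidHom := ⟨a, ha, rfl⟩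
    rwa [hfix] at this
  let X := {a : G // a ∈ P ∧ IsConj t a}
  haveI : Fintype X := Fintype.ofFinite X
  have hinv : ∀ a : G, v * (v * a * v⁻¹) * v⁻¹ = a := fun a => by
    calc v * (v * a * v⁻¹) * v⁻¹ = (v * v) * a * (v * v)⁻¹ := by group
      _ = a := by rw [hvv]; group
  let σ : Equiv.Perm X :=
    { toFun := fun a => ⟨v * a.1 * v⁻¹, hpres _ a.2.1, a.2.2.trans (isConj_iff.2 ⟨v, rfl⟩)⟩
      invFun := fun a => ⟨v * a.1 * v⁻¹, hpres _ a.2.1, a.2.2.trans (isConj_iff.2 ⟨v, rfl⟩)⟩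
      left_inv := fun a => Subtype.ext (hinv a.1)
      right_inv := fun a => Subtype.ext (hinv a.1) }
  haveI : Fact (Nat.Prime 2) := ⟨Nat.prime_two⟩
  have hσ : σ ^ 2 ^ 1 = 1 := by
    refine Equiv.ext fun a => ?_
    simp only [pow_one, pow_two, Equiv.Perm.mul_apply, Equiv.Perm.one_apply]
    exact σ.left_inv a
  have hcard : ¬ 2 ∣ Fintype.card X := by
    rw [← Nat.card_eq_fintype_card, K.five_of hK hP]
    norm_num
  obtain ⟨a, ha⟩ := Equiv.Perm.exists_fixed_point_of_prime hcard hσ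
  have hva : v * a.1 = a.1 * v := mul_inv_eq_iff_eq_mul.1 (congrArg Subtype.val ha :)
  rcases K.invol_cases hK hv2 with hvt | hve
  · obtain ⟨g, rfl⟩ := hP
    have hN : g⁻¹ * v * g ∈ K.N := K.mem_N.2 fun w hw => by
      have := K.mem_Econj.1 (hpres _ (K.conj_mem_Econj (g := g) hw))
      simpa [mul_assoc] using this
    exact hnadj ⟨hne.symm, v, hvt, hv,
      K.mem_Econj.2 (K.tType_mem_E hK hN (hvt.trans (isConj_iff.2 ⟨g⁻¹, by simp⟩)))⟩
  · exact hnadj ⟨hne.symm, a.1, a.2.2,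
      K.tType_mem_E hK (K.eType_cent_le_N hK hv hve hva.symm) a.2.2, a.2.1⟩

end Cent

end Cfsg.Agent.PSpCent
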