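import Cfsg.Agent.Lib.PSpCent.Points
import Cfsg.Agent.Lib.PSpCent.Model

/-!
# The neighbours of `E`, the other sixteen points, and the action of `E` on them
-/

set_option autoImplicit false
set_option linter.style.haveILetI false

namespace Cfsg.Agent.PSpCent

open Cfsg

/-- The code of the `i`-th of the five. -/
def aC (i : Fin 5) : ℕ := ([24, 1, 75, 375, 575] : List ℕ).getD i 0

/-- The code of the element of `E` with coordinates `v`. -/
def wc (v : ℕ) : ℕ :=
  mul (mul (if v % 2 = 1 then 24 else 0) (if v / 2 % 2 = 1 then 1 else 0))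
    (mul (if v / 4 % 2 = 1 then 75 else 0) (if v / 8 % 2 = 1 then 375 else 0))

/-- The coordinates of the `i`-th of the five. -/
def bit (i : Fin 5) : ℕ := ([1, 2, 4, 8, 15] : List ℕ).getD i 0

theorem chk_wc : ∀ u < 16, ∀ v < 16, mul (wc u) (wc v) = wc (u ^^^ v) ∧ (wc u = wc v → u = v) := by
  decide +kernel

theorem chk_wc_mem : (∀ v < 16, wc v ∈ e0List) ∧ ∀ x ∈ e0List, ∃ v < 16, wc v = x := by decide +kernel

theorem chk_aC : ∀ i : Fin 5, wc (bit i) = aC i ∧ bit i < 16 ∧ aC i ∈ five ∧ aC i < 576 := by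
  decide +kernel

theorem aC_inj : ∀ i j : Fin 5, aC i = aC j → i = j := by decide +kernel

theorem chk_phi : (∀ i j : Fin 5, phi i (bit j) = decide (i ≠ j)) ∧
    ∀ i : Fin 5, ∀ u < 16, ∀ v < 16, phi i (u ^^^ v) = xor (phi i u) (phi i v) := by decide +kernel

theorem aC_cover : ∀ x ∈ five, ∃ i, aC i = x := by decide +kernel

/-- Conjugation of subgroups. -/
abbrev cj {G : Type*} [Group G] (g : G) (P : Subgroup G) : Subgroup G :=
  P.map (MulAut.conj g).toMonoidHom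

namespace Cent

variable {G : Type*} [Group G] {t : G} (K : Cent G t)

/-- The five involutions of the class of `t` in `E`. -/
def A (i : Fin 5) : G := K.f (aC i)

/-- The elements of `E`. -/
def W (v : ℕ) : G := K.f (wc v)

theorem W_bit (i : Fin 5) : K.W (bit i) = K.A i := congrArg K.f (chk_aC i).1

theorem W_mem {v : ℕ} (hv : v < 16) : K.W v ∈ K.E := ⟨_, chk_wc_mem.1 v hv, rfl⟩

theorem W_mul {u v : ℕ} (hu : u < 16) (hv : v < 16) : K.W u * K.W v = K.W (u ^^^ v) := by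
  rw [W, W, W, ← (chk_wc u hu v hv).1,
    K.hmul (lt_of_e0 (chk_wc_mem.1 u hu)) (lt_of_e0 (chk_wc_mem.1 v hv))]

theorem W_inj {u v : ℕ} (hu : u < 16) (hv : v < 16) (h : K.W u = K.W v) : u = v :=
  (chk_wc u hu v hv).2 (K.hinj (lt_of_e0 (chk_wc_mem.1 u hu)) (lt_of_e0 (chk_wc_mem.1 v hv)) h)

theorem W_zero : K.W 0 = 1 := by
  rw [W, show wc 0 = 0 by decide +kernel, K.f_zero]

theorem W_surj {a : G} (ha : a ∈ K.E) : ∃ v < 16, K.W v = a := by
  obtain ⟨x, hx, rfl⟩ := ha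
  obtain ⟨v, hv, rfl⟩ := chk_wc_mem.2 x hx
  exact ⟨v, hv, rfl⟩

theorem cj_one (P : Subgroup G) : cj 1 P = P := by
  ext v
  simp [mem_map_conj]

theorem cj_cj (g h : G) (P : Subgroup G) : cj g (cj h P) = cj (g * h) P := map_comp P g h

theorem cj_invol {a : G} (ha : a * a = 1) (P : Subgroup G) : cj a (cj a P) = P := by
  rw [cj_cj, ha, cj_one]

theorem mem_cj {P : Subgroup G} {g a : G} (ha : a ∈ P) : g * a * g⁻¹ ∈ cj g P := ⟨a, ha, rfl⟩

theorem cj_E {a : G} (ha : a ∈ K.E) : cj a K.E = K.E := K.map_of_mem K.isPt_E ha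

variable (hK : Good K)

include hK

theorem A_mem (i : Fin 5) : K.A i ∈ K.E ∧ IsConj t (K.A i) :=
  (K.tType_E hK).2 ⟨_, (chk_aC i).2.2.1, rfl⟩

omit hK in
theorem A_inj {i j : Fin 5} (h : K.A i = K.A j) : i = j :=
  aC_inj i j (K.hinj (chk_aC i).2.2.2 (chk_aC j).2.2.2 h)

theorem A_cover {a : G} (ha : a ∈ K.E) (hat : IsConj t a) : ∃ i, K.A i = a := by
  obtain ⟨x, hx, rfl⟩ := (K.tType_E hK).1 ⟨ha, hat⟩
  obtain ⟨i, rfl⟩ := aC_cover x hx
  exact ⟨i, rfl⟩

variable [Finite G]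

/-- `P` is a neighbour of `E` through the `i`-th of the five. -/
def Nb (i : Fin 5) (P : Subgroup G) : Prop := K.IsPt P ∧ K.A i ∈ P ∧ P ≠ K.E

/-- `P` is one of the sixteen points far from `E`. -/
def Far (P : Subgroup G) : Prop := K.IsPt P ∧ P ≠ K.E ∧ ¬ Adj (t := t) K.E P

omit hK in
theorem Far.cj {P : Subgroup G} (hP : K.Far P) {a : G} (ha : a ∈ K.E) : K.Far (cj a P) := by
  refine ⟨hP.1.map K a, fun e => hP.2.1 ?_, fun hA => hP.2.2 ?_⟩
  · have := congrArg (PSpCent.cj a) e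
    rwa [cj_invol (K.E_sq ha), K.cj_E ha] at this
  · have := adj_map a hA
    rwa [show K.E.map (MulAut.conj a).toMonoidHom = K.E from K.cj_E ha,
      show (PSpCent.cj a P).map (MulAut.conj a).toMonoidHom = P from cj_invol (K.E_sq ha) P]
      at this

theorem adj_E_nb {i : Fin 5} {P : Subgroup G} (hP : K.Nb i P) : Adj (t := t) K.E P :=
  ⟨hP.2.2.symm, K.A i, (K.A_mem hK i).2, (K.A_mem hK i).1, hP.2.1⟩

theorem nb_cases {P : Subgroup G} (hP : K.IsPt P) :
    P = K.E ∨ (∃ i, K.Nb i P) ∨ K.Far P := by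
  refine or_iff_not_imp_left.2 fun hne => ?_
  by_cases h : Adj (t := t) K.E P
  · obtain ⟨-, a, hat, haE, haP⟩ := h
    obtain ⟨i, rfl⟩ := K.A_cover hK haE hat
    exact Or.inl ⟨i, hP, haP, hne⟩
  · exact Or.inr ⟨hP, hne, h⟩

theorem nb_index {i j : Fin 5} {P : Subgroup G} (h : K.Nb i P) (h' : K.Nb j P) : i = j :=
  K.A_inj (K.share_unique hK K.isPt_E h.1 h.2.2.symm (K.A_mem hK i).2 (K.A_mem hK j).2
    (K.A_mem hK i).1 (K.A_mem hK j).1 h.2.1 h'.2.1)

theorem card_nb (i : Fin 5) : ({P | K.Nb i P}).ncard = 2 := by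
  classical
  obtain ⟨S, hS, hmem⟩ := K.three_through (K.A_mem hK i).2
  have he : {P | K.Nb i P} = ↑(S.erase K.E) := by
    ext P
    simp only [Set.mem_ofPred_eq, Finset.coe_erase, Set.mem_sdiff, Finset.mem_coe, hmem,
      Set.mem_singleton_iff, Nb]
    tauto
  rw [he, Set.ncard_coe_finset, Finset.card_erase_of_mem, hS]
  exact (hmem _).2 ⟨K.isPt_E, (K.A_mem hK i).1⟩

theorem card_far : ({P | K.Far P}).ncard = 16 := by
  classical
  haveI : Finite (Subgroup G) := inferInstance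
  have hall : {P | K.IsPt P} = ({K.E} ∪ ⋃ i, {P | K.Nb i P}) ∪ {P | K.Far P} := by
    ext P
    simp only [Set.mem_ofPred_eq, Set.mem_union, Set.mem_singleton_iff, Set.mem_iUnion]
    constructor
    · intro hP
      rcases K.nb_cases hK hP with h | h | h
      · exact Or.inl (Or.inl h)
      · exact Or.inl (Or.inr h)
      · exact Or.inr h
    · rintro ((rfl | ⟨i, h⟩) | h)
      exacts [K.isPt_E, h.1, h.1]
  have hnb : (⋃ i, {P | K.Nb i P}).ncard = 10 := by
    rw [Set.ncard_iUnion_of_finite (s := fun i => {P | K.Nb i P}) (fun i => Set.toFinite _) (fun i j hij =>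
      Set.disjoint_left.2 fun P h h' => hij (K.nb_index hK h h')), finsum_eq_sum_of_fintype]
    simp [K.card_nb hK]
  have h27 : ({P | K.IsPt P}).ncard = 27 := (Nat.card_coe_set_eq _).symm.trans (K.card_points hK)
  rw [hall, Set.ncard_union_eq, Set.ncard_union_eq, Set.ncard_singleton, hnb] at h27
  · omega
  · simp only [Set.disjoint_singleton_left, Set.mem_iUnion, Set.mem_ofPred_eq, not_exists]
    exact fun i h => h.2.2 rfl
  · refine Set.disjoint_left.2 fun P h h' => ?_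
    rcases h with h | h
    · exact h'.2.1 h
    · obtain ⟨i, hi⟩ := Set.mem_iUnion.1 h
      exact h'.2.2 (K.adj_E_nb hK hi)

theorem far_inj {P : Subgroup G} (hP : K.Far P) {u v : ℕ} (hu : u < 16) (hv : v < 16)
    (h : cj (K.W u) P = cj (K.W v) P) : u = v := by
  have h2 := congrArg (cj (K.W v)) h
  rw [cj_cj, cj_invol (K.E_sq (K.W_mem hv)), K.W_mul hv hu] at h2
  have hlt : v ^^^ u < 16 := Nat.xor_lt_two_pow (n := 4) hv hu
  have h1 := K.E_free hK hP.1 hP.2.1 hP.2.2 (K.W_mem hlt) h2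
  have h0 := K.W_inj hlt (by norm_num) (h1.trans K.W_zero.symm)
  exact (Nat.xor_eq_zero_iff.1 h0).symm

theorem far_orbit {P Q : Subgroup G} (hP : K.Far P) (hQ : K.Far Q) :
    ∃ v < 16, cj (K.W v) P = Q := by
  classical
  have hsub : ↑((Finset.range 16).image fun v => cj (K.W v) P) ⊆ {R | K.Far R} := by
    intro R hR
    simp only [Finset.coe_image, Set.mem_image, Finset.coe_range, Set.mem_Iio] at hR
    obtain ⟨v, hv, rfl⟩ := hR
    exact Far.cj K hP (K.W_mem hv)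
  have heq := Set.eq_of_subset_of_ncard_le hsub (by
    rw [K.card_far hK, Set.ncard_coe_finset, Finset.card_image_of_injOn, Finset.card_range]
    intro u hu v hv h
    simp only [Finset.coe_range, Set.mem_Iio] at hu hv
    exact K.far_inj hK hP hu hv h) (Set.toFinite _)
  have : Q ∈ {R | K.Far R} := hQ
  rw [← heq] at this
  simp only [Finset.coe_image, Set.mem_image, Finset.coe_range, Set.mem_Iio] at this
  exact this

/-- Every far point has a neighbour through each of the five. -/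
theorem exists_nb_adj {Q : Subgroup G} (hQ : K.Far Q) (i : Fin 5) :
    ∃ P, K.Nb i P ∧ Adj (t := t) P Q := by
  classical
  obtain ⟨P, hP⟩ : ({P | K.Nb i P}).Nonempty :=
    Set.nonempty_of_ncard_ne_zero (by rw [K.card_nb hK]; norm_num)
  obtain ⟨⟨b, hbP, hbt⟩, hb⟩ : ∃ b : {a : G // a ∈ P ∧ IsConj t a}, b.1 ≠ K.A i := by
    by_contra hcon
    push Not at hcon
    haveI : Subsingleton {a : G // a ∈ P ∧ IsConj t a} :=
      ⟨fun x y => Subtype.ext ((hcon x).trans (hcon y).symm)⟩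
    have h5 := K.five_of hK hP.1
    rw [Nat.card_of_subsingleton (⟨K.A i, hP.2.1, (K.A_mem hK i).2⟩ :
      {a : G // a ∈ P ∧ IsConj t a})] at h5
    norm_num at h5
  obtain ⟨S, hS, hmem⟩ := K.three_through hbt
  obtain ⟨P', hP', hne⟩ := Finset.exists_mem_ne (by rw [hS]; norm_num) P
  obtain ⟨hP'p, hbP'⟩ := (hmem P').1 hP'
  have hP'E : P' ≠ K.E := by
    rintro rfl
    exact hb (K.share_unique hK hP.1 hP'p hne.symm hbt (K.A_mem hK i).2 hbP hP.2.1 hbP'
      (K.A_mem hK i).1)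
  have hfar : K.Far P' := by
    refine ⟨hP'p, hP'E, fun ⟨hne', c, hct, hcE, hcP'⟩ => hb ?_⟩
    exact (K.triangle hK K.isPt_E hP.1 hP'p hP.2.2.symm hne.symm hne' (K.A_mem hK i).2 hbt hct
      (K.A_mem hK i).1 hP.2.1 hbP hbP' hcE hcP').1.symm
  obtain ⟨v, hv, rfl⟩ := K.far_orbit hK hfar hQ
  have hW := K.W_mem hv
  refine ⟨cj (K.W v) P, ⟨hP.1.map K _, ?_, fun e => hP.2.2 ?_⟩,
    adj_map _ ⟨hne.symm, b, hbt, hbP, hbP'⟩⟩
  · have := mem_cj (g := K.W v) hP.2.1
    rwa [K.E_comm hW (K.A_mem hK i).1, mul_inv_cancel_right] at this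
  · have := congrArg (cj (K.W v)) e
    rwa [cj_invol (K.E_sq hW), K.cj_E hW] at this

theorem nb_adj_unique {Q P P' : Subgroup G} (hQ : K.Far Q) {i : Fin 5} (hP : K.Nb i P)
    (hP' : K.Nb i P') (h : Adj (t := t) P Q) (h' : Adj (t := t) P' Q) : P = P' := by
  by_contra hne
  obtain ⟨hPQ, c, hct, hcP, hcQ⟩ := h
  obtain ⟨hP'Q, b, hbt, hbP', hbQ⟩ := h'
  have := K.triangle hK hP.1 hP'.1 hQ.1 hne hP'Q hPQ (K.A_mem hK i).2 hbt hct hP.2.1 hP'.2.1
    hbP' hbQ hcP hcQ
  exact hQ.2.2 ⟨hQ.2.1.symm, K.A i, (K.A_mem hK i).2, (K.A_mem hK i).1, this.1 ▸ hbQ⟩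

theorem exists_far : ∃ P, K.Far P :=
  Set.nonempty_of_ncard_ne_zero (s := {P | K.Far P}) (by rw [K.card_far hK]; norm_num)

end Cent

end Cfsg.Agent.PSpCent
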